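import Cfsg.Agent.U62Mult50.Bound
import Cfsg.Agent.U43Mult50.Split

/-!
From `SU_6(2)` to `PSU_6(2)` (helper50).
-/

set_option autoImplicit false

namespace Cfsg.Agent.U62Mult50

open Cfsg.Agent.U43Mult50 (stem_derived)
open Cfsg.Agent.Unitary Cfsg.Agent.CharB.PSLMult Cfsg.Agent.SuMult50
open scoped commutatorElement

universe v w

/-- Three commuting elements of orders dividing `3`, `2`, `2` give a map from the product. -/
theorem exists_hom_322 {A : Type w} [CommGroup A] (a b c : A) (ha : a ^ 3 = 1) (hb : b ^ 2 = 1)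
    (hc : c ^ 2 = 1) : ∃ π : Multiplicative (ZMod 3 × ZMod 2 × ZMod 2) →* A,
      a ∈ π.range ∧ b ∈ π.range ∧ c ∈ π.range := by
  let fa : ZMod 3 →+ Additive A := ZMod.lift 3 ⟨zmultiplesHom (Additive A) (Additive.ofMul a), by
    show ((3 : ℕ) : ℤ) • Additive.ofMul a = 0
    rw [natCast_zsmul, ← ofMul_pow, ha, ofMul_one]⟩
  let fb : ZMod 2 →+ Additive A := ZMod.lift 2 ⟨zmultiplesHom (Additive A) (Additive.ofMul b), by
    show ((2 : ℕ) : ℤ) • Additive.ofMul b = 0
    rw [natCast_zsmul, ← ofMul_pow, hb, ofMul_one]⟩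
  let fc : ZMod 2 →+ Additive A := ZMod.lift 2 ⟨zmultiplesHom (Additive A) (Additive.ofMul c), by
    show ((2 : ℕ) : ℤ) • Additive.ofMul c = 0
    rw [natCast_zsmul, ← ofMul_pow, hc, ofMul_one]⟩
  refine ⟨AddMonoidHom.toMultiplicativeLeft (fa.coprod (fb.coprod fc)),
    ⟨Multiplicative.ofAdd (((1 : ℤ) : ZMod 3), 0, 0), ?_⟩,
    ⟨Multiplicative.ofAdd (0, ((1 : ℤ) : ZMod 2), 0), ?_⟩,
    ⟨Multiplicative.ofAdd (0, 0, ((1 : ℤ) : ZMod 2)), ?_⟩⟩
  all_goals
    show Additive.toMul ((fa.coprod (fb.coprod fc)) _) = _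
    simp only [toAdd_ofAdd, AddMonoidHom.coprod_apply, map_zero, add_zero, zero_add]
  · rw [show fa ((1 : ℤ) : ZMod 3) = _ from ZMod.lift_coe _ _ _]; simp
  · rw [show fb ((1 : ℤ) : ZMod 2) = _ from ZMod.lift_coe _ _ _]; simp
  · rw [show fc ((1 : ℤ) : ZMod 2) = _ from ZMod.lift_coe _ _ _]; simp

variable {F : Type v} [Field F] [Fintype F] (hF : Fintype.card F = 2 ^ 2)
include hF

theorem card_center_six : Nat.card (Subgroup.center (SU 6 F 2)) = 3 := by
  rw [card_center hF (by norm_num)]; rfl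

theorem perfect_SU : commutator (SU 6 F 2) = ⊤ :=
  commutator_SU_eq_top hF (by norm_num) (by norm_num)

theorem perfect_PSU : Group.IsPerfect (Cfsg.PSU 6 F 2) := by
  refine ⟨?_⟩
  have := congrArg (Subgroup.map (QuotientGroup.mk' (Subgroup.center (SU 6 F 2)))) (perfect_SU hF)
  rwa [_root_.commutator_def, Subgroup.map_commutator,
    Subgroup.map_top_of_surjective _ (QuotientGroup.mk'_surjective _),
    ← _root_.commutator_def] at this

/-- The bound for `PSU_4(3)`. -/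
theorem exists_surjective_psu {Γ : Type v} [Group Γ] [Finite Γ] (σ : Γ →* Cfsg.PSU 6 F 2)
    (hσ : Cfsg.IsStemExtension σ) :
    ∃ π : Multiplicative (ZMod 3 × ZMod 2 × ZMod 2) →* σ.ker, Function.Surjective π := by
  classical
  let π : SU 6 F 2 →* Cfsg.PSU 6 F 2 := QuotientGroup.mk' _
  let P : Subgroup (Γ × SU 6 F 2) :=
    (σ.comp (MonoidHom.fst Γ (SU 6 F 2))).eqLocus (π.comp (MonoidHom.snd Γ (SU 6 F 2)))
  have hP : ∀ x : Γ × SU 6 F 2, x ∈ P ↔ σ x.1 = π x.2 := fun x => Iff.rfl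
  have hstem : Cfsg.IsStemExtension ((MonoidHom.snd Γ (SU 6 F 2)).comp ⁅P, P⁆.subtype) := by
    refine stem_derived _ P (perfect_SU hF) ?_ ?_
    · rw [eq_top_iff]
      intro g _
      obtain ⟨x, hx⟩ := hσ.1 (π g)
      exact ⟨(x, g), hx, rfl⟩
    · rintro ⟨x, g⟩ hx (rfl : g = 1) ⟨y, g'⟩ _
      have hxk : x ∈ σ.ker := by simpa [hP] using hx
      exact Prod.ext (Subgroup.mem_center_iff.1 (hσ.2.1 hxk) y).symm (by simp)
  set τ := (MonoidHom.snd Γ (SU 6 F 2)).comp ⁅P, P⁆.subtype with hτ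
  set pr : ↥⁅P, P⁆ →* Γ := (MonoidHom.fst Γ (SU 6 F 2)).comp ⁅P, P⁆.subtype with hpr
  obtain ⟨c₁, c₂, h1, h2, h13, h23, hgen⟩ := exists_two_gens hF τ hstem
  have hmem : ∀ δ : ↥⁅P, P⁆, σ (pr δ) = π (τ δ) := fun δ =>
    (hP _).1 (P.commutator_le_self δ.2)
  have hprsurj : Function.Surjective pr := by
    have htop : Subgroup.map (MonoidHom.fst Γ (SU 6 F 2)) ⁅P, P⁆ = ⊤ := by
      rw [Subgroup.map_commutator]
      have e : P.map (MonoidHom.fst Γ (SU 6 F 2)) = ⊤ := by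
        rw [eq_top_iff]
        intro x _
        obtain ⟨g, hg⟩ := QuotientGroup.mk'_surjective _ (σ x)
        exact ⟨(x, g), hg.symm, rfl⟩
      rw [e, ← _root_.commutator_def,
        (Cfsg.Agent.Schur.isPerfect_of_stem (perfect_PSU hF) σ hσ).commutator_eq_top]
    intro x
    obtain ⟨y, hy, e⟩ := (htop.symm ▸ Subgroup.mem_top x :
      x ∈ Subgroup.map (MonoidHom.fst Γ (SU 6 F 2)) ⁅P, P⁆)
    exact ⟨⟨y, hy⟩, e⟩
  have := isCyclic_center_SU hF (n := 6) (by norm_num)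
  obtain ⟨⟨z, hz⟩, hzgen⟩ := IsCyclic.exists_generator (α := Subgroup.center (SU 6 F 2))
  have hz4 : z ^ 3 = 1 := by
    have := pow_card_eq_one' (x := (⟨z, hz⟩ : Subgroup.center (SU 6 F 2)))
    rw [card_center_six hF] at this
    exact congrArg Subtype.val this
  obtain ⟨δ, hδ⟩ := hstem.1 z
  have hexp : ∀ κ ∈ τ.ker, κ ^ 2 = 1 := by
    have hc : ∀ y ∈ ({c₁, c₂} : Set ↥⁅P, P⁆), y ∈ Subgroup.center ↥⁅P, P⁆ := by
      rintro y (rfl | rfl)
      exacts [hstem.2.1 h1, hstem.2.1 h2]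
    suffices h : ∀ κ ∈ Subgroup.closure ({c₁, c₂} : Set ↥⁅P, P⁆), κ ^ 2 = 1 from
      fun κ hκ => h κ (hgen hκ)
    intro κ hκ
    induction hκ using Subgroup.closure_induction with
    | mem y hy => rcases hy with rfl | rfl <;> assumption
    | one => exact one_pow 2
    | mul a b ha _ iha ihb =>
      have hca : a ∈ Subgroup.center ↥⁅P, P⁆ := (Subgroup.closure_le _).2 hc ha
      rw [(show Commute a b from (Subgroup.mem_center_iff.1 hca b).symm).mul_pow, iha, ihb, one_mul]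
    | inv a _ iha => rw [inv_pow, iha, inv_one]
  set d := δ ^ 2 with hd
  have hd4 : d ^ 3 = 1 := by
    rw [hd, ← pow_mul, mul_comm, pow_mul]
    refine hexp _ ?_
    rw [MonoidHom.mem_ker, map_pow, hδ, hz4]
  have hk : ∀ ε : ↥⁅P, P⁆, τ ε ∈ Subgroup.center (SU 6 F 2) → pr ε ∈ σ.ker := by
    intro ε hε
    rw [MonoidHom.mem_ker, hmem]
    exact (QuotientGroup.eq_one_iff _).2 hε
  have hdc : τ d ∈ Subgroup.center (SU 6 F 2) := by
    rw [hd, map_pow, hδ]; exact pow_mem hz 2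
  let inst : CommGroup σ.ker :=
    { (inferInstance : Group σ.ker) with
      mul_comm := fun a b => Subtype.ext (Subgroup.mem_center_iff.1 (hσ.2.1 b.2) _) }
  have hz1 : ∀ c, τ c = 1 → τ c ∈ Subgroup.center (SU 6 F 2) := fun c hc => by
    rw [hc]; exact one_mem _
  obtain ⟨φ, hφd, hφ1, hφ2⟩ := exists_hom_322 (A := σ.ker) ⟨pr d, hk d hdc⟩
    ⟨pr c₁, hk c₁ (hz1 _ h1)⟩ ⟨pr c₂, hk c₂ (hz1 _ h2)⟩
    (Subtype.ext (by simp [← map_pow, hd4])) (Subtype.ext (by simp [← map_pow, h13]))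
    (Subtype.ext (by simp [← map_pow, h23]))
  refine ⟨φ, fun x => ?_⟩
  obtain ⟨ε, hε⟩ := hprsurj x
  have hεc : τ ε ∈ Subgroup.center (SU 6 F 2) :=
    (QuotientGroup.eq_one_iff _).1 (((hmem ε).symm.trans (by rw [hε])).trans x.2)
  have hz3 : z = (z ^ 2) ^ 2 := by
    rw [← pow_mul, show 2 * 2 = 3 * 1 + 1 from rfl, pow_succ, pow_mul, hz4, one_pow, one_mul]
  obtain ⟨j, hj⟩ := hzgen ⟨τ ε, hεc⟩
  have hj' : z ^ j = τ ε := congrArg Subtype.val hj
  have hτd : τ d = z ^ 2 := by rw [hd, map_pow, hδ]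
  have hrest : (d ^ (2 * j))⁻¹ * ε ∈ τ.ker := by
    rw [MonoidHom.mem_ker, map_mul, map_inv, map_zpow, hτd, zpow_mul, ← hj']
    rw [show ((z ^ 2) ^ (2 : ℤ) : SU 6 F 2) = (z ^ 2) ^ 2 from zpow_natCast _ 2, ← hz3]
    simp
  have hall : ∀ κ ∈ Subgroup.closure ({c₁, c₂} : Set ↥⁅P, P⁆),
      ∃ h : pr κ ∈ σ.ker, (⟨pr κ, h⟩ : σ.ker) ∈ φ.range := by
    intro κ hκ
    induction hκ using Subgroup.closure_induction with
    | mem y hy =>
      rcases hy with rfl | rfl
      · exact ⟨_, hφ1⟩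
      · exact ⟨_, hφ2⟩
    | one => exact ⟨by simp, by convert one_mem φ.range using 1; exact Subtype.ext (by simp)⟩
    | mul a b _ _ iha ihb =>
      obtain ⟨ha, ha'⟩ := iha
      obtain ⟨hb, hb'⟩ := ihb
      exact ⟨by rw [map_mul]; exact mul_mem ha hb,
        by convert mul_mem ha' hb' using 1; exact Subtype.ext (by simp)⟩
    | inv a _ iha =>
      obtain ⟨ha, ha'⟩ := iha
      exact ⟨by rw [map_inv]; exact inv_mem ha,
        by convert inv_mem ha' using 1; exact Subtype.ext (by simp)⟩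
  obtain ⟨h', h''⟩ := hall _ (hgen hrest)
  have : x ∈ φ.range := by
    have hm := mul_mem (zpow_mem hφd (2 * j)) h''
    convert hm using 1
    refine Subtype.ext ?_
    simp [← hε, ← map_zpow]
  exact this

/-- The multiplier, given a cover of `SU_4(3)` with kernel of order at least `4`. -/
theorem hasSchurMultiplier_of_cover4 {Δ : Type v} [Group Δ] [Finite Δ] (τ : Δ →* SU 6 F 2)
    (hτ : Cfsg.IsStemExtension τ) (h9 : 4 ≤ Nat.card τ.ker) :
    Cfsg.HasSchurMultiplier (Cfsg.PSU 6 F 2) (Multiplicative (ZMod 3 × ZMod 2 × ZMod 2)) := by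
  classical
  let π : SU 6 F 2 →* Cfsg.PSU 6 F 2 := QuotientGroup.mk' _
  have hA : Nat.card (Multiplicative (ZMod 3 × ZMod 2 × ZMod 2)) = 12 := by
    simp
  have hbound : ∀ (Γ : Type v) [Group Γ] [Finite Γ] (σ : Γ →* Cfsg.PSU 6 F 2),
      Cfsg.IsStemExtension σ → Nat.card σ.ker ≤ Nat.card (Multiplicative (ZMod 3 × ZMod 2 × ZMod 2)) :=
    fun Γ _ _ σ hσ => by
      obtain ⟨φ, hφ⟩ := exists_surjective_psu hF σ hσ
      exact Nat.card_le_card_of_surjective φ hφ
  have hP := Cfsg.Agent.Schur.isPerfect_of_stem ⟨perfect_SU hF⟩ τ hτ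
  have h1 : Cfsg.IsStemExtension (π.comp τ) := by
    refine ⟨(QuotientGroup.mk'_surjective _).comp hτ.1, fun x hx => ?_,
      fun x _ => Group.IsPerfect.mem_commutator (hP := hP)⟩
    exact Cfsg.Agent.Schur.mem_center_of_perfect hP x fun g => hτ.2.1 (by
      rw [MonoidHom.mem_ker, map_commutatorElement, commutatorElement_eq_one_iff_mul_comm]
      exact (Subgroup.mem_center_iff.1 ((QuotientGroup.eq_one_iff _).1 hx) _).symm)
  have h36 : 12 ≤ Nat.card (π.comp τ).ker := by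
    have hcard : Nat.card (π.ker.comap τ) = Nat.card π.ker * Nat.card τ.ker := by
      let f := τ.subgroupComap π.ker
      have hf : Function.Surjective f := τ.subgroupComap_surjective_of_surjective _ hτ.1
      rw [Subgroup.card_eq_card_quotient_mul_card_subgroup f.ker,
        Nat.card_congr (QuotientGroup.quotientKerEquivOfSurjective f hf).toEquiv]
      congr 1
      exact Nat.card_congr
        { toFun := fun x => ⟨x.1.1, congrArg Subtype.val x.2⟩
          invFun := fun x => ⟨⟨x.1, by simp [MonoidHom.mem_ker.1 x.2]⟩,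
            Subtype.ext (MonoidHom.mem_ker.1 x.2)⟩
          left_inv := fun x => rfl
          right_inv := fun x => rfl }
    rw [← MonoidHom.comap_ker π τ, hcard,
      show π.ker = Subgroup.center (SU 6 F 2) from QuotientGroup.ker_mk' _, card_center_six hF]
    omega
  obtain ⟨φ, hφ⟩ := exists_surjective_psu hF (π.comp τ) h1
  exact Cfsg.Agent.Schur.hasSchurMultiplier_of_card_le (π.comp τ) h1
    (MulEquiv.ofBijective φ (Cfsg.Agent.Schur.bijective_of_surjective_of_card_le φ hφ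
      (by rw [hA]; exact h36))).symm hbound

end Cfsg.Agent.U62Mult50
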