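import Cfsg.Agent.U62Mult50.Gens
import Cfsg.Agent.U62Mult50.Reduce

/-!
The fourfold cover of `SU_6(2)` and the multiplier of `PSU_6(2)` (helper50).
-/

set_option autoImplicit false

namespace Cfsg.Agent.U62Mult50

open Matrix Cfsg.Agent.Unitary Cfsg.Agent.ChevCore Cfsg.Agent.CosetEnum
open scoped commutatorElement

universe v

variable {F : Type v} [Field F] {ω : F}

/-- The matrix of an element. -/
def mat (g : SU 6 F 2) : Matrix (Fin 6) (Fin 6) F := (g : Matrix.SpecialLinearGroup (Fin 6) F).1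

theorem mat_mul (g h : SU 6 F 2) : mat (g * h) = mat g * mat h := rfl

theorem mat_one : mat (1 : SU 6 F 2) = 1 := rfl

/-- The triples. -/
def cov [Fintype F] (ω : F) : Subgroup (SU 6 F 2 × Equiv.Perm Pt × Equiv.Perm Pt) where
  carrier := {x | Compat ω 0 (mat x.1) x.2.1 ∧ Compat ω 1 (mat x.1) x.2.2}
  one_mem' := ⟨by rw [Prod.fst_one, mat_one]; exact compat_one 0,
    by rw [Prod.fst_one, mat_one]; exact compat_one 1⟩
  mul_mem' := by
    rintro x y ⟨h1, h2⟩ ⟨h1', h2'⟩
    exact ⟨compat_mul h1 h1', compat_mul h2 h2'⟩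
  inv_mem' := by
    intro x hx
    have hpow : ∀ n : ℕ, Compat ω 0 (mat (x ^ n).1) (x ^ n).2.1 ∧
        Compat ω 1 (mat (x ^ n).1) (x ^ n).2.2 := by
      intro n
      induction n with
      | zero =>
        exact ⟨by rw [pow_zero, Prod.fst_one, mat_one]; exact compat_one 0,
          by rw [pow_zero, Prod.fst_one, mat_one]; exact compat_one 1⟩
      | succ n ih =>
        rw [pow_succ]
        exact ⟨compat_mul ih.1 hx.1, compat_mul ih.2 hx.2⟩
    have e : x⁻¹ = x ^ (orderOf x - 1) := inv_eq_of_mul_eq_one_right (by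
      rw [← pow_succ', Nat.sub_add_cancel (orderOf_pos x), pow_orderOf_eq_one])
    rw [e]
    exact hpow _

variable [Fintype F] (hF : Fintype.card F = 2 ^ 2) (hω : ω * ω + ω + 1 = 0)
include hF hω

theorem exists_lift_gen {k : ℕ} (hk : k < 5) : ∃ g : SU 6 F 2,
    (g, permP 0 ⟨k, hk⟩, permP 1 ⟨k, hk⟩) ∈ cov ω ∧
    IsGen ω k g ∧
    ∀ x, g • x = x + (herm 2 x (fun i : Fin 6 => val ω (genU k i)) •
        (fun i : Fin 6 => val ω (genU k (6 + i))) -
      herm 2 x (fun i : Fin 6 => val ω (genU k (6 + i))) • (fun i : Fin 6 => val ω (genU k i)) +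
      (val ω (genU k 12) * herm 2 x (fun i : Fin 6 => val ω (genU k i))) •
        (fun i : Fin 6 => val ω (genU k i))) := by
  obtain ⟨g, hg, hsm⟩ := exists_gen hF hω hk
  refine ⟨g, ⟨?_, ?_⟩, hg, hsm⟩
  · show Compat ω 0 (mat g) _
    rw [show mat g = matM ω k from hg]
    exact compat_gen hF hω 0 ⟨k, hk⟩
  · show Compat ω 1 (mat g) _
    rw [show mat g = matM ω k from hg]
    exact compat_gen hF hω 1 ⟨k, hk⟩

/-- All transvections at `x` lift. -/
def Good (x : Fin 6 → F) : Prop :=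
  ∀ (c : F) (hu : herm 2 x x = 0) (hc : c + c ^ 2 = 0),
    tv hF hu hc ∈ (cov ω).map (MonoidHom.fst (SU 6 F 2) _)

omit hω in
theorem herm_smul_self (l : F) (x : Fin 6 → F) : herm 2 (l • x) (l • x) = l ^ 3 * herm 2 x x := by
  rw [herm_smul_left, herm_smul_right hF]; ring

theorem good_smul {x : Fin 6 → F} (h : Good (ω := ω) hF x) {l : F} (hl : l ≠ 0) : Good (ω := ω) hF (l • x) := by
  intro c hu hc
  have hx : herm 2 x x = 0 := by
    rw [herm_smul_self hF] at hu
    exact (mul_eq_zero.1 hu).resolve_left (pow_ne_zero _ hl)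
  have h3 : l ^ 3 = 1 := by
    have := FiniteField.pow_card_sub_one_eq_one l hl
    rwa [hF] at this
  have hc' : c * l ^ 3 + (c * l ^ 3) ^ 2 = 0 := by
    linear_combination l ^ 3 * hc + c ^ 2 * l ^ 3 * h3
  have e : tv hF hu hc = tv hF hx hc' := by
    refine eq_of_smul_eq_SU fun y => ?_
    rw [tv_smul, tv_smul, herm_smul_right hF, smul_smul]
    congr 2
    ring
  rw [e]
  exact h _ _ _

theorem good_gen_smul {x : Fin 6 → F} (h : Good (ω := ω) hF x) {g : SU 6 F 2}
    (hg : g ∈ (cov ω).map (MonoidHom.fst (SU 6 F 2) _)) : Good (ω := ω) hF (g • x) := by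
  intro c hu hc
  have hx : herm 2 x x = 0 := by rwa [herm_smul_SU] at hu
  have := conj_tv hF g hx hc
  rw [← this]
  exact mul_mem (mul_mem hg (h _ _ _)) (inv_mem hg)

theorem good_rep : ∀ n, n < 693 → Good (ω := ω) hF (vecN ω (repN n)) := by
  intro n
  induction n using Nat.strong_induction_on with
  | _ n ih =>
    intro hn
    have ht := treeB_true
    simp only [treeB, kallUpTo_iff, forceNat_eq, Bool.or_eq_true, Bool.and_eq_true, Nat.beq_eq,
      Nat.blt_eq] at ht
    rcases ht n hn with rfl | ⟨⟨⟨⟨hp, hs⟩, hl⟩, hl4⟩, hv⟩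
    · intro c hu hc
      obtain ⟨g, hg, -, hsm⟩ := exists_lift_gen hF hω (k := 3) (by norm_num)
      rcases mul_eq_zero.1 (show c * (1 + c) = 0 by linear_combination hc) with rfl | hc1
      · rw [show tv hF hu hc = 1 from eq_of_smul_eq_SU fun x => by simp [tv_smul]]
        exact one_mem _
      obtain rfl : c = 1 := by linear_combination hc1 - SuMult50.two_eq_zero hF
      have hu6 : ∀ i : Fin 6, val ω (genU 3 (6 + i)) = (0 : F) := by
        have : ∀ i : Fin 6, genU 3 (6 + i) = 0 := by decide +kernel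
        intro i; rw [this, val_zero]
      have hu0 : (fun i : Fin 6 => val ω (genU 3 i)) = vecN ω (repN 0) := by
        have : ∀ i : Fin 6, genU 3 i = digit (repN 0) i := by decide +kernel
        funext i; rw [this]; rfl
      have hb : val ω (genU 3 12) = 1 := by
        rw [show genU 3 12 = 1 by decide +kernel, val_one]
      have eg : g = tv hF hu hc := by
        refine eq_of_smul_eq_SU fun x => ?_
        rw [hsm, tv_smul, hu0, hb, show (fun i : Fin 6 => val ω (genU 3 (6 + i))) = 0 from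
          funext hu6, herm_zero_right hF]
        simp
      rw [← eg]
      exact ⟨_, hg, rfl⟩
    · obtain ⟨g, hg, hgen, -⟩ := exists_lift_gen hF hω hs
      have hgood := good_gen_smul hF hω (ih _ hp (by omega)) (g := g) ⟨_, hg, rfl⟩
      have he : vecN ω (repN n) =
          val ω (infoN n / 8192) • (g • vecN ω (repN (infoN n % 1024))) := by
        funext r
        simp only [vecN, (hv r r.isLt), val_cmul hF hω, Pi.smul_apply, smul_eq_mul]
        congr 1
        rw [val_csum hF]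
        simp only [val_cmul hF hω]
        show _ = (mat g *ᵥ _) r
        rw [show mat g = matM ω _ from hgen]
        rfl
      rw [he]
      refine good_smul hF hω hgood fun e0 => ?_
      have := val_inj hF hω hl4 (by norm_num) (e0.trans val_zero.symm)
      omega

theorem fst_cov : (cov ω).map (MonoidHom.fst (SU 6 F 2) _) = ⊤ := by
  rw [eq_top_iff, ← tvGroup_empty hF (n := 6) (by norm_num), tvGroup, Subgroup.closure_le]
  rintro _ ⟨u, c, hu, hc, -, rfl⟩
  by_cases hu0 : u = 0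
  · subst hu0
    rw [show tv hF hu hc = 1 from eq_of_smul_eq_SU fun x => by simp [tv_smul]]
    exact one_mem _
  obtain ⟨v, hv, rfl⟩ := exists_vecN hF hω u
  have hcv := coverB_true
  simp only [coverB, kallUpTo_iff, forceNat_eq, Bool.or_eq_true, Bool.and_eq_true, Nat.beq_eq,
    Nat.blt_eq, Bool.not_eq_true', ← Bool.not_eq_true] at hcv
  rcases hcv v hv with (rfl | h0) | ⟨hn, hent⟩
  · exact absurd (funext fun i => by simp [vecN, digit, val_zero]) hu0
  · refine absurd (val_inj hF hω (csum_lt _) (by norm_num) ?_) h0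
    rw [← herm_val hF hω, val_zero]
    exact hu
  · have e : vecN ω v = val ω (idxN v % 4) • vecN ω (repN (idxN v / 4)) := by
      funext r
      simp only [vecN, hent r r.isLt, val_cmul hF hω, Pi.smul_apply, smul_eq_mul]
    refine (?_ : Good (ω := ω) hF (vecN ω v)) c hu hc
    rw [e]
    refine good_smul hF hω (good_rep hF hω _ hn) fun e0 => hu0 ?_
    rw [e, e0, zero_smul]

/-- The cover. -/
def tau : ↥⁅cov ω, cov ω⁆ →* SU 6 F 2 :=
  (MonoidHom.fst (SU 6 F 2) (Equiv.Perm Pt × Equiv.Perm Pt)).comp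
    ⁅cov ω, cov ω⁆.subtype

theorem tau_stem : Cfsg.IsStemExtension (tau (ω := ω)) := by
  refine U43Mult50.stem_derived _ (cov ω) (perfect_SU hF) (fst_cov hF hω) ?_
  rintro ⟨g, p, p'⟩ ⟨h1, h2⟩ (rfl : g = 1) ⟨g', r, r'⟩ ⟨k1, k2⟩
  obtain ⟨e, rfl⟩ := compat_one_eq hF hω (c := 0) (p := p) (by rwa [mat_one] at h1)
  obtain ⟨e', rfl⟩ := compat_one_eq hF hω (c := 1) (p := p') (by rwa [mat_one] at h2)
  exact Prod.ext (Commute.one_left g').eq
    (Prod.ext (sh_commute k1 e).eq (sh_commute k2 e').eq)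

omit [Fintype F] hF hω in
theorem gen_comm {a b : ℕ} {g g' : SU 6 F 2} (hg : IsGen ω a g) (hg' : IsGen ω b g')
    (h : ∀ r : Fin 6, ∀ c : Fin 6, (matM ω a * matM ω b) r c = (matM ω b * matM ω a) r c) :
    g * g' = g' * g := by
  refine Subtype.ext (Subtype.ext ?_)
  show mat g * mat g' = mat g' * mat g
  rw [show mat g = _ from hg, show mat g' = _ from hg']
  exact Matrix.ext h

theorem kernel_two : ((1 : SU 6 F 2), sh 1, sh 0) ∈ ⁅cov ω, cov ω⁆ ∧
    ((1 : SU 6 F 2), sh 1, sh 1) ∈ ⁅cov ω, cov ω⁆ := by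
  have hc := commB_true
  simp only [commB, kallUpTo_iff, Bool.and_eq_true, Nat.beq_eq] at hc
  have hmat : ∀ a b : ℕ, (∀ r < 6, ∀ c < 6, csum (fun l => cmul (mEnt a r l) (mEnt b l c)) =
      csum fun l => cmul (mEnt b r l) (mEnt a l c)) →
      ∀ r : Fin 6, ∀ c : Fin 6, (matM ω a * matM ω b) r c = (matM ω b * matM ω a) r c := by
    intro a b h r c
    have e := congrArg (val ω) (h r r.isLt c c.isLt)
    simp only [val_csum hF, val_cmul hF hω] at e
    simpa [Matrix.mul_apply, matM] using e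
  obtain ⟨g0, h0, hg0, -⟩ := exists_lift_gen hF hω (k := 0) (by norm_num)
  obtain ⟨g1, h1, hg1, -⟩ := exists_lift_gen hF hω (k := 1) (by norm_num)
  obtain ⟨g2, h2, hg2, -⟩ := exists_lift_gen hF hω (k := 2) (by norm_num)
  have key : ∀ (g g' : SU 6 F 2) (p p' q q' : Equiv.Perm Pt) (e e' : ZMod 2),
      (g, p, p') ∈ cov ω → (g', q, q') ∈ cov ω → g * g' = g' * g →
      p * q = sh e * (q * p) → p' * q' = sh e' * (q' * p') →
      ((1 : SU 6 F 2), sh e, sh e') ∈ ⁅cov ω, cov ω⁆ := by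
    intro g g' p p' q q' e e' hx hy hg he he'
    have := Subgroup.commutator_mem_commutator hx hy
    convert this using 1
    refine Prod.ext ?_ (Prod.ext ?_ ?_)
    · show 1 = g * g' * g⁻¹ * g'⁻¹
      rw [hg]; group
    · show sh e = p * q * p⁻¹ * q⁻¹
      rw [he]; group
    · show sh e' = p' * q' * p'⁻¹ * q'⁻¹
      rw [he']; group
  refine ⟨key _ _ _ _ _ _ _ _ h0 h1 (gen_comm hg0 hg1 (hmat 0 1 fun r hr c hc' =>
      (hc r hr c hc').1)) ?_ ?_,
    key _ _ _ _ _ _ _ _ h0 h2 (gen_comm hg0 hg2 (hmat 0 2 fun r hr c hc' =>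
      (hc r hr c hc').2)) ?_ ?_⟩
  · exact (shift_comm (c := 0) (a := 0) (b := 1) (e := 1) shiftA.1).trans (by rw [Nat.cast_one]; rfl)
  · exact (shift_comm (c := 1) (a := 0) (b := 1) (e := 0) shiftBB.1).trans (by rw [Nat.cast_zero]; rfl)
  · exact (shift_comm (c := 0) (a := 0) (b := 2) (e := 1) shiftA.2).trans (by rw [Nat.cast_one]; rfl)
  · exact (shift_comm (c := 1) (a := 0) (b := 2) (e := 1) shiftBB.2).trans (by rw [Nat.cast_one]; rfl)

theorem four_le : 4 ≤ Nat.card (tau (ω := ω)).ker := by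
  obtain ⟨hA, hB⟩ := kernel_two hF hω
  set A : SU 6 F 2 × Equiv.Perm Pt × Equiv.Perm Pt := (1, sh 1, sh 0)
  set B : SU 6 F 2 × Equiv.Perm Pt × Equiv.Perm Pt := (1, sh 1, sh 1)
  let f : Fin 2 × Fin 2 → (tau (ω := ω)).ker := fun ab =>
    ⟨⟨A ^ (ab.1 : ℕ) * B ^ (ab.2 : ℕ), mul_mem (pow_mem hA _) (pow_mem hB _)⟩, by
      simp [MonoidHom.mem_ker, tau, A, B]⟩
  have hf : Function.Injective f := by
    intro x y e
    have e1 := congrArg (fun z : (tau (ω := ω)).ker => (z.1.1.2.1 ((0 : Fin 672), (0 : ZMod 2)),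
      z.1.1.2.2 ((0 : Fin 672), (0 : ZMod 2)))) e
    simp only [f, A, B, Prod.pow_mk, Prod.mk_mul_mk] at e1
    clear e
    revert e1
    revert x y
    decide +kernel
  have := Nat.card_le_card_of_injective f hf
  simpa using this

omit hω in
/-- **The multiplier of `PSU_6(2)`.** -/
theorem hasSchurMultiplier_PSU : Cfsg.HasSchurMultiplier (Cfsg.PSU 6 F 2)
    (Multiplicative (ZMod 3 × ZMod 2 × ZMod 2)) := by
  obtain ⟨ω, h3, h1⟩ := exists_omega hF
  have hω : ω * ω + ω + 1 = 0 :=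
    (mul_eq_zero.1 (show (ω - 1) * (ω * ω + ω + 1) = 0 by linear_combination h3)).resolve_left
      (sub_ne_zero.2 h1)
  exact hasSchurMultiplier_of_cover4 hF (tau (ω := ω)) (tau_stem hF hω) (four_le hF hω)

end Cfsg.Agent.U62Mult50
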