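import Cfsg.Agent.U62Mult50.Normal

/-!
A stem extension of `SU_6(2)` has kernel generated by two elements of order dividing `2`, up to the
exponent (helper50).
-/

set_option autoImplicit false

namespace Cfsg.Agent.U62Mult50

open Matrix Cfsg.Agent.Unitary Cfsg.Agent.CharB.PSLMult Cfsg.Agent.SuMult50
open scoped commutatorElement

universe v w

variable {F : Type v} [Field F] [Fintype F] (hF : Fintype.card F = 2 ^ 2)
include hF

theorem exists_frame {i j : Fin 6} (hij : i ≠ j) : ∃ P : Frame 6 F 2, P.i = i ∧ P.j = j ∧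
    P.pair = {i, j} := by
  obtain ⟨u, f, hu, hf, huu, hff, huf⟩ := exists_std_pair hF hij
  exact ⟨⟨i, j, u, f, hij, hu, hf, huu, hff, huf⟩, rfl, rfl, rfl⟩

omit [Fintype F] hF in
theorem card_map_of_inj {Γ : Type v} [Group Γ] (σ : Γ →* SU 6 F 2) (H : Subgroup Γ)
    (hH : ∀ g ∈ H, σ g = 1 → g = 1) : Nat.card (H.map σ) = Nat.card H :=
  Nat.card_congr (Equiv.ofBijective (fun h : H => (⟨σ h, h, h.2, rfl⟩ : ↥(H.map σ)))
    ⟨fun a b e => Subtype.ext (mul_inv_eq_one.1 (hH _ (mul_mem a.2 (inv_mem b.2))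
        (by simp [show σ a = σ b from congrArg Subtype.val e]))),
      fun ⟨_, a, ha, e⟩ => ⟨⟨a, ha⟩, Subtype.ext e⟩⟩).symm

omit [Field F] [Fintype F] hF in
theorem cm_mul_right {Γ : Type v} {G : Type w} [Group Γ] [Group G] {σ : Γ →* G} (E : CEx σ)
    {x y y' : G} (_h : Commute x y) : E.cm x (y * y') = E.cm x y * E.cm x y' ∨ ¬ Commute x y' := by
  by_cases h' : Commute x y'
  · exact Or.inl (by rw [← E.cm_inv, E.cm_mul_left' h'.symm, _root_.mul_inv_rev, E.cm_inv, E.cm_inv])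
  · exact Or.inr h'

/-- A Sylow subgroup lifts once one root element commutes with the lifts of two elements of the
radical. -/
theorem not_two_dvd {Γ : Type v} [Group Γ] [Finite Γ] {σ : Γ →* SU 6 F 2}
    (hσ : Cfsg.IsStemExtension σ) (hexp : ∀ z ∈ σ.ker, z ^ 2 = 1) (P R R' : Frame 6 F 2)
    (hP : P.pair = {0, 1}) (hR : R.pair = {2, 3}) (hR' : R'.pair = {4, 5}) {g₀ : SU 6 F 2} {b₀ : F}
    (hg₀ : R.IsQ g₀ (eI 4) b₀)
    (hfive : ∀ x : F, ∃ (q : SU 6 F 2) (β : F), P.IsQ q (x • eI 5) β ∧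
      (⟨hσ.1, hσ.2.1⟩ : CEx σ).cm g₀ q = 1 ∧ Commute g₀ q) :
    ¬ 2 ∣ Nat.card σ.ker := by
  classical
  have E : CEx σ := ⟨hσ.1, hσ.2.1⟩
  obtain ⟨ω, hω, hω1⟩ := exists_omega hF
  have h20 : (2 : F) = 0 := SuMult50.two_eq_zero hF
  obtain ⟨Z0, S, hcomm⟩ := exists_section hF E hexp (by norm_num) P
  obtain ⟨ZR, SR, hcommR⟩ := exists_section hF E hexp (by norm_num) R
  obtain ⟨Z', S', -⟩ := exists_section hF E hexp (by norm_num) R'
  have hPR : ∀ m : Fin 6, m ∈ P.pair → m ∉ R.pair ∧ m ∉ R'.pair := by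
    rw [hP, hR, hR']; decide
  have hRR : ∀ m : Fin 6, m ∈ R.pair → m ∉ P.pair ∧ m ∉ R'.pair := by
    rw [hP, hR, hR']; decide
  have hR'm : ∀ m : Fin 6, m ∈ R'.pair → m ∉ P.pair ∧ m ∉ R.pair := by
    rw [hP, hR, hR']; decide
  have hmemij : ∀ Q : Frame 6 F 2, Q.i ∈ Q.pair ∧ Q.j ∈ Q.pair := fun Q => by simp [Frame.pair]
  have h4P : (4 : Fin 6) ∉ P.pair := by rw [hP]; decide
  have h5P : (5 : Fin 6) ∉ P.pair := by rw [hP]; decide
  obtain ⟨t₀, a₀, ht₀, -, -, hne₀⟩ := exists_mover_pair hF P hω hω1 (show (4 : Fin 6) ≠ 5 by decide)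
    h4P h5P
  obtain ⟨d₀, rfl⟩ := hσ.1 t₀
  have hd₀ : P.IsMover σ d₀ :=
    ⟨1, a₀, ht₀, fun m hm => by rw [one_pow, one_mul]; exact hne₀ m hm⟩
  obtain ⟨t₁, a₁, ht₁, -, -, hne₁⟩ := exists_mover_pair hF R hω hω1 (show (4 : Fin 6) ≠ 5 by decide)
    (by rw [hR]; decide) (by rw [hR]; decide)
  obtain ⟨d₁, rfl⟩ := hσ.1 t₁
  have hd₁ : R.IsMover σ d₁ :=
    ⟨1, a₁, ht₁, fun m hm => by rw [one_pow, one_mul]; exact hne₁ m hm⟩
  set X := S.comp hcomm hd₀ with hX
  set XR := SR.comp hcommR hd₁ with hXR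
  -- the elements which normalise the radical of `P`
  let N : Subgroup (SU 6 F 2) :=
    { carrier := {g | Nm σ X g}
      one_mem' := nm_one E X
      mul_mem' := fun ha hb => nm_mul E ha hb
      inv_mem' := fun ha => nm_inv E ha }
  have hz : ∀ (g : SU 6 F 2) (b : F), R.IsQ g 0 b → g ∈ N := fun g b hg =>
    nm_zero S hcomm hd₀ (hRR _ (hmemij R).1).1 (hRR _ (hmemij R).2).1 hg
  have hz' : ∀ (g : SU 6 F 2) (b : F), R'.IsQ g 0 b → g ∈ N := fun g b hg =>
    nm_zero S hcomm hd₀ (hR'm _ (hmemij R').1).1 (hR'm _ (hmemij R').2).1 hg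
  have hg₀N : g₀ ∈ N := nm_root S hcomm hd₀ hR hP hg₀ hfive
  have hw4 : ∀ (r : Fin 6) (x : F), r ∉ R.pair → x • (eI r : Fin 6 → F) ∈ supp R.pair := fun r x h =>
    Submodule.smul_mem _ _ (eI_mem_supp h)
  have h4R : (4 : Fin 6) ∉ R.pair := by rw [hR]; decide
  have h5R : (5 : Fin 6) ∉ R.pair := by rw [hR]; decide
  have hsame : ∀ (w : Fin 6 → F), w ∈ supp R.pair → ∀ (g g' : SU 6 F 2) (b b' : F), R.IsQ g w b →
      R.IsQ g' w b' → g ∈ N → g' ∈ N := by
    intro w hw g g' b b' hg hg' hgN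
    have h := R.isQ_mul hF (neg_mem hw) hw (R.isQ_inv hF hw hg) hg'
    rw [neg_add_cancel] at h
    have := mul_mem hgN (hz _ _ h)
    rwa [mul_inv_cancel_left] at this
  -- scalars
  have hscale : ∀ x : F, x ≠ 0 → ∀ (g : SU 6 F 2) (b : F), R.IsQ g (x • eI 4) b → g ∈ N := by
    intro x hx g b hg
    obtain ⟨t, a, ht, ha4, -, hao⟩ := P.exists_tor₂ hF h4P h5P (show (4 : Fin 6) ≠ 5 by decide)
      (l := (1 : F)) (ρ := x) one_ne_zero (SuMult50.pow_three_eq_one hF hx)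
    have hu : t • R.u = (1 : F) • R.u := by
      rw [P.tor_smul ht (mem_supp.2 fun m hm => mem_supp.1 R.hu m (Finset.mem_compl.2 (hPR m hm).1)),
        one_smul]
      funext m
      by_cases hm : m = 4 ∨ m = 5
      · have : m ∉ R.pair := by rcases hm with rfl | rfl <;> assumption
        simp [mem_supp.1 R.hu m (Finset.mem_compl.2 this)]
      · rw [not_or] at hm
        simp [hao m hm.1 hm.2]
    have htN : t ∈ N := nm_tor S hcomm hd₀ ht
    refine hsame _ (hw4 4 x h4R) _ g _ b (R.isQ_congr (R.isQ_conj hF hu hg₀) ?_ rfl) hg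
      (mul_mem (mul_mem htN hg₀N) (inv_mem htN))
    rw [one_pow, one_smul, ht.2.2 4 h4P, ha4]
  -- the swap of the last two coordinates
  have hswap : ∀ x : F, x ≠ 0 → ∀ (g : SU 6 F 2) (b : F), R.IsQ g (x • eI 5) b → g ∈ N := by
    intro x hx g b hg
    set u' : Fin 6 → F := eI 4 + eI 5 with hu'
    have hu'S : u' ∈ supp ({4, 5}ᶜ : Finset (Fin 6)) :=
      add_mem (eI_mem_supp (by decide)) (eI_mem_supp (by decide))
    have hu'u : herm 2 u' u' = 0 := by
      simp only [hu', herm_add_left, herm_add_right hF, herm_eI_eI hF]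
      simp
      linear_combination h20
    have hu'0 : u' ≠ 0 := fun h => by
      have := congrFun h 4
      simp [hu', eI] at this
    obtain ⟨f', hf'S, hf', huf'⟩ := exists_partner hF hu'S hu'u hu'0
    let T : Frame 6 F 2 := ⟨4, 5, u', f', by decide, hu'S, hf'S, hu'u, hf', huf'⟩
    obtain ⟨τ, hτ⟩ := T.exists_isQ hF (w := 0) (b := 1) (zero_mem _) (by
      rw [herm_zero_left, neg_zero, one_pow]; linear_combination h20)
    have hτN : τ ∈ N := nm_zero S hcomm hd₀ (R := T) h4P h5P hτ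
    obtain ⟨g₁, b₁, hg₁⟩ : ∃ g₁ b₁, R.IsQ g₁ (x • eI 4) b₁ := by
      obtain ⟨β, hβ⟩ := exists_trace_eq hF (t := -herm 2 (x • eI 4 : Fin 6 → F) (x • eI 4))
        (by rw [neg_pow_q hF, herm_self_fixed hF])
      obtain ⟨g₁, hg₁⟩ := R.exists_isQ hF (hw4 4 x h4R) hβ
      exact ⟨g₁, β, hg₁⟩
    have hu : τ • R.u = (1 : F) • R.u := by
      rw [hτ, herm_off_supp hF (S := ({4, 5} : Finset (Fin 6)))
        (mem_supp.2 fun m hm => mem_supp.1 R.hu m (Finset.mem_compl.2 fun h => by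
          have h' : m ∈ R.pair := h
          rw [hR] at h'; clear h; revert h' hm; revert m; decide)) hu'S]
      simp [herm_zero_right hF]
    have he : τ • (eI 4 : Fin 6 → F) = eI 5 := by
      rw [hτ, herm_zero_right hF, zero_smul, sub_zero, smul_zero, zero_add, one_mul]
      show eI 4 + herm 2 (eI 4) u' • u' = eI 5
      rw [hu', herm_add_right hF, herm_eI_eI hF, herm_eI_eI hF, if_pos rfl,
        if_neg (show ¬((4 : Fin 6) = 5) by decide), add_zero, one_smul, ← add_assoc,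
        ← two_smul F (eI 4 : Fin 6 → F), h20, zero_smul, zero_add]
    refine hsame _ (hw4 5 x h5R) _ g _ b (R.isQ_congr (R.isQ_conj hF hu hg₁) ?_ rfl) hg
      (mul_mem (mul_mem hτN (hscale x hx g₁ b₁ hg₁)) (inv_mem hτN))
    rw [one_pow, one_smul, smul_comm, he]
  have hqgR : R.qg hF P.pair ≤ N := by
    refine R.qg_le_of_gens hF fun w b g hg hw => ?_
    rcases hw with rfl | ⟨r, x, hrR, hrP, rfl⟩
    · exact hz g b hg
    · by_cases hx : x = 0
      · subst hx; rw [zero_smul] at hg; exact hz g b hg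
      have : r = 4 ∨ r = 5 := by
        clear hg; rw [hR] at hrR; rw [hP] at hrP; revert hrR hrP; revert r; decide
      rcases this with rfl | rfl
      · exact hscale x hx g b hg
      · exact hswap x hx g b hg
  -- glue
  have hz'fix : ∀ h ∈ Z', σ h ∈ fixS (P.pair ∪ R.pair) := by
    intro h hh
    obtain ⟨c, hc⟩ : σ h ∈ R'.zgrp hF := S'.map ▸ ⟨h, hh, rfl⟩
    rw [mem_fixS]
    intro m hm
    have hm' : m ∉ R'.pair := (Finset.mem_union.1 hm).elim (fun h => (hPR m h).2) fun h => (hRR m h).2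
    rw [hc, (R'.perp_u hF (eI_mem_supp hm')).1]
    simp [herm_zero_right hF]
  set Y := XR ⊓ (R.qg hF P.pair).comap σ with hY
  have hnormY : ∀ h ∈ Z', ∀ y ∈ Y, h * y * h⁻¹ ∈ Y := by
    rintro h hh y ⟨hy, hyq⟩
    obtain ⟨c, hc⟩ : σ h ∈ R'.zgrp hF := S'.map ▸ ⟨h, hh, rfl⟩
    refine ⟨nm_zero SR hcommR hd₁ (hR'm _ (hmemij R').1).2 (hR'm _ (hmemij R').2).2 hc h rfl y hy, ?_⟩
    show σ (h * y * h⁻¹) ∈ R.qg hF P.pair
    rw [map_mul, map_mul, map_inv]
    refine R.qg_conj hF ?_ hyq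
    rw [Finset.union_comm]; exact hz'fix h hh
  obtain ⟨g1, g2, g3⟩ := glue σ hnormY (fun y hy => SR.comp_inj hcommR hd₁ y hy.1) S'.inj (by
    intro y hy h hh e
    refine R.qg_inf hF (S := P.pair) hy.2 ?_
    rw [eq_inv_of_mul_eq_one_left e, Finset.union_comm]
    exact inv_mem (hz'fix h hh))
  set H := Y ⊔ Z' with hH
  have hHN : ∀ h ∈ H, σ h ∈ N ∧ σ h ∈ fixS P.pair := by
    intro h hh
    obtain ⟨y, hy, z, hzz, rfl⟩ := g2 h hh
    obtain ⟨c, hc⟩ : σ z ∈ R'.zgrp hF := S'.map ▸ ⟨z, hzz, rfl⟩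
    rw [map_mul]
    refine ⟨mul_mem (hqgR hy.2) (hz' _ _ hc), mul_mem ?_ ?_⟩
    · exact rootGrp_le_fixS hF _ (R.qg_le_rootGrp hF (hRR _ (hmemij R).1).1
        (hRR _ (hmemij R).2).1 hy.2)
    · exact mem_fixS.2 fun m hm => mem_fixS.1 (hz'fix z hzz) m (Finset.mem_union_left _ hm)
  obtain ⟨k1, -, k3⟩ := glue σ (X := X) (H := H) (fun h hh x hx => (hHN h hh).1 h rfl x hx)
    (S.comp_inj hcomm hd₀) g1 (by
      intro x hx h hh e
      refine P.qg_inf hF (S := ∅) ?_ ?_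
      · rw [← S.comp_map hcomm hd₀]; exact ⟨x, hx, rfl⟩
      · rw [eq_inv_of_mul_eq_one_left e, Finset.union_empty]
        exact inv_mem (hHN h hh).2)
  have hcZ : Nat.card Z' = 2 := by
    rw [← card_map_of_inj σ Z' S'.inj, S'.map]
    have e : R'.zgrp hF = R'.qg hF (P.pair ∪ R.pair) := by
      ext g
      constructor
      · rintro ⟨c, hc⟩; exact ⟨0, c, zero_mem _, hc⟩
      · rintro ⟨w, c, hw, hc⟩
        refine ⟨c, R'.isQ_congr hc (funext fun i => mem_supp.1 hw i ?_) rfl⟩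
        rw [hP, hR, hR']; revert i; decide
    rw [e, R'.card_qg hF, hP, hR, hR']
    rfl
  have hcY : Nat.card Y = 32 := by
    rw [← card_map_of_inj σ Y (fun y hy => SR.comp_inj hcommR hd₁ y hy.1)]
    have e : Y.map σ = R.qg hF P.pair := by
      refine le_antisymm ?_ ?_
      · rintro _ ⟨y, hy, rfl⟩; exact hy.2
      · intro g hg
        obtain ⟨y, hy, rfl⟩ : g ∈ XR.map σ :=
          (SR.comp_map hcommR hd₁).symm ▸ R.qg_le_empty hF P.pair hg
        exact ⟨y, ⟨hy, hg⟩, rfl⟩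
    rw [e, R.card_qg hF, hP, hR]
    rfl
  have hcX : Nat.card X = 512 := by
    rw [← card_map_of_inj σ X (S.comp_inj hcomm hd₀), S.comp_map hcomm hd₀, P.card_qg hF, hP]
    rfl
  refine not_dvd_of_subgroup hσ Nat.prime_two ((X ⊔ H).map σ) ?_ fun z hz hzH _ =>
    ker_comm_of_split E k1 le_rfl z hz hzH
  have hidx := ((X ⊔ H).map σ).card_mul_index
  rw [card_map_of_inj σ _ k1, k3, hcX, g3, hcY, hcZ, SuMult50.card_SU_six_two hF,
    show 27590492160 = 512 * (32 * 2) * 841995 by norm_num] at hidx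
  rw [Nat.eq_of_mul_eq_mul_left (by norm_num) hidx]
  norm_num

/-- **The bound for `SU_6(2)`.** -/
theorem exists_two_gens {Γ : Type v} [Group Γ] [Finite Γ] (σ : Γ →* SU 6 F 2)
    (hσ : Cfsg.IsStemExtension σ) : ∃ c₁ c₂ : Γ, σ c₁ = 1 ∧ σ c₂ = 1 ∧ c₁ ^ 2 = 1 ∧ c₂ ^ 2 = 1 ∧
      σ.ker ≤ Subgroup.closure {c₁, c₂} := by
  classical
  have E : CEx σ := ⟨hσ.1, hσ.2.1⟩
  obtain ⟨ω, hω, hω1⟩ := exists_omega hF
  obtain ⟨P, hPi, hPj, hP⟩ := exists_frame hF (show (0 : Fin 6) ≠ 1 by decide)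
  obtain ⟨R, hRi, hRj, hR⟩ := exists_frame hF (show (2 : Fin 6) ≠ 3 by decide)
  obtain ⟨R', -, -, hR'⟩ := exists_frame hF (show (4 : Fin 6) ≠ 5 by decide)
  have hmk : ∀ (Q : Frame 6 F 2) (w : Fin 6 → F), w ∈ supp Q.pair →
      ∃ g b, Q.IsQ g w b := fun Q w hw => by
    obtain ⟨β, hβ⟩ := exists_trace_eq hF (t := -herm 2 w w)
      (by rw [neg_pow_q hF, herm_self_fixed hF])
    obtain ⟨g, hg⟩ := Q.exists_isQ hF hw hβ
    exact ⟨g, β, hg⟩
  have h5P : (5 : Fin 6) ∉ P.pair := by rw [hP]; decide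
  obtain ⟨g₀, b₀, hg₀⟩ := hmk R (eI 4) (eI_mem_supp (by rw [hR]; decide))
  have hsupp : ∀ x : F, (x • eI 5 : Fin 6 → F) ∈ supp P.pair := fun x =>
    Submodule.smul_mem _ _ (eI_mem_supp h5P)
  obtain ⟨q₁, β₁, hq₁⟩ := hmk P _ (hsupp 1)
  obtain ⟨q₂, β₂, hq₂⟩ := hmk P _ (hsupp ω)
  have hgfix : g₀ ∈ fixS (P.pair ∪ {5}) := by
    refine mem_fixS.2 fun m hm => ?_
    have h4 : m ≠ 4 := by rw [hP] at hm; revert m; decide
    have h1 : m ∉ R.pair := by rw [hR]; rw [hP] at hm; clear h4; revert m; decide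
    rw [hg₀, (R.perp_u hF (eI_mem_supp h1)).1, herm_eI_eI hF, if_neg h4]
    simp
  have hcommute : ∀ (x : F) (q : SU 6 F 2) (β : F), P.IsQ q (x • eI 5) β → Commute g₀ q := by
    intro x q β hq
    have hu : g₀ • P.u = (1 : F) • P.u := by
      rw [one_smul, (P.fix_frame hF (g := g₀) (mem_fixS.2 fun m hm =>
        mem_fixS.1 hgfix m (Finset.mem_union_left _ hm))).1]
    refine mul_inv_eq_iff_eq_mul.1 (P.isQ_unique (P.isQ_congr (P.isQ_conj hF hu hq) ?_ ?_) hq)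
    · rw [one_pow, one_smul, smul_comm, mem_fixS.1 hgfix 5 (by simp)]
    · rw [one_pow, one_mul]
  have hcm : ∀ q : SU 6 F 2, Commute g₀ q → σ (E.cm g₀ q) = 1 := fun q h => by
    rw [E.map_cm, commutatorElement_eq_one_iff_mul_comm]; exact h.eq
  have hsq : ∀ (x : F) (q : SU 6 F 2) (β : F), P.IsQ q (x • eI 5) β → E.cm g₀ q ^ 2 = 1 := by
    intro x q β hq
    have hs2 : P.IsQ (q * q) 0 (β + β - herm 2 (x • eI 5 : Fin 6 → F) (x • eI 5)) := by
      refine P.isQ_congr (P.isQ_mul hF (hsupp x) (hsupp x) hq hq) ?_ rfl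
      rw [← two_smul F, SuMult50.two_eq_zero hF, zero_smul]
    have hgr : g₀ ∈ rootGrp (F := F) (q := 2) P.pair :=
      Subgroup.subset_closure ⟨R, eI 4, b₀, hg₀, by rw [hRi, hP]; decide, by rw [hRj, hP]; decide,
        Or.inr ⟨4, 1, by rw [hR]; decide, by rw [hP]; decide, (one_smul _ _).symm⟩⟩
    have h := (P.cm_rootGrp_zero hF E (Or.inl (by norm_num)) hs2 hgr).2
    have hc := hcommute x q β hq
    rw [(cm_mul_right E hc).resolve_right (not_not_intro hc)] at h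
    rwa [← pow_two] at h
  set c₁ := E.cm g₀ q₁
  set c₂ := E.cm g₀ q₂
  refine ⟨c₁, c₂, hcm _ (hcommute _ _ _ hq₁), hcm _ (hcommute _ _ _ hq₂), hsq _ _ _ hq₁,
    hsq _ _ _ hq₂, ?_⟩
  set K := Subgroup.closure ({c₁, c₂} : Set Γ) with hK
  have hKker : K ≤ σ.ker := by
    rw [hK, Subgroup.closure_le]
    rintro x (rfl | rfl)
    exacts [hcm _ (hcommute _ _ _ hq₁), hcm _ (hcommute _ _ _ hq₂)]
  have : K.Normal := ⟨fun x hx g => by
    rwa [Subgroup.mem_center_iff.1 (hσ.2.1 (hKker hx)) g, mul_inv_cancel_right]⟩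
  let σ' : Γ ⧸ K →* SU 6 F 2 := QuotientGroup.lift K σ hKker
  have hσ' : Cfsg.IsStemExtension σ' := by
    refine ⟨fun g => ?_, fun x hx => ?_, fun x hx => ?_⟩
    · obtain ⟨y, rfl⟩ := hσ.1 g
      exact ⟨QuotientGroup.mk' K y, rfl⟩
    · obtain ⟨y, rfl⟩ := QuotientGroup.mk'_surjective K x
      refine Subgroup.mem_center_iff.2 fun z => ?_
      obtain ⟨z, rfl⟩ := QuotientGroup.mk'_surjective K z
      rw [← map_mul, ← map_mul, Subgroup.mem_center_iff.1 (hσ.2.1 hx) z]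
    · obtain ⟨y, rfl⟩ := QuotientGroup.mk'_surjective K x
      have h := Subgroup.mem_map_of_mem (QuotientGroup.mk' K) (hσ.2.2 hx)
      rw [_root_.commutator_def, Subgroup.map_commutator,
        Subgroup.map_top_of_surjective _ (QuotientGroup.mk'_surjective K),
        ← _root_.commutator_def] at h
      exact h
  have h2K : ¬ 2 ∣ Nat.card σ'.ker := by
    refine SpMult50.not_two_dvd_card_ker σ' hσ' fun Δ _ _ τ f hf hτ hexp => ?_
    have Eτ : CEx τ := ⟨hτ.1, hτ.2.1⟩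
    have hzero : ∀ (g q : SU 6 F 2), E.cm g q ∈ K → Eτ.cm g q = 1 := by
      intro g q hgq
      obtain ⟨a, rfl⟩ := hσ.1 g
      obtain ⟨b, rfl⟩ := hσ.1 q
      rw [← E.cm_eq] at hgq
      have e : ∀ y, τ (f (QuotientGroup.mk' K y)) = σ y := fun y => by
        rw [← MonoidHom.comp_apply τ f, hf]; rfl
      rw [← e a, ← e b, ← Eτ.cm_eq, ← map_commutatorElement, ← map_commutatorElement]
      rw [show QuotientGroup.mk' K ⁅a, b⁆ = 1 from (QuotientGroup.eq_one_iff _).2 hgq, map_one]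
    refine not_two_dvd hF hτ hexp P R R' hP hR hR' hg₀ fun x => ?_
    obtain ⟨i, j, e⟩ : ∃ i j : ℕ, x = (i : F) + (j : F) * ω := by
      have h := omega_eq hω hω1
      by_cases hx : x = 0
      · exact ⟨0, 0, by simp [hx]⟩
      have h3 := SuMult50.pow_three_eq_one hF hx
      have h' : (x - 1) * ((x - ω) * (x - ω * ω)) = 0 := by
        linear_combination h3 + (x - x ^ 2) * h + (x - 1) * hω
      rcases mul_eq_zero.1 h' with h1 | h1
      · exact ⟨1, 0, by rw [sub_eq_zero.1 h1]; simp⟩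
      rcases mul_eq_zero.1 h1 with h2 | h2
      · exact ⟨0, 1, by rw [sub_eq_zero.1 h2]; simp⟩
      · exact ⟨1, 1, by
          rw [sub_eq_zero.1 h2]; push_cast
          linear_combination h - (ω + 1) * SuMult50.two_eq_zero hF⟩
    have hpow : ∀ (y : F) (q : SU 6 F 2) (β : F), P.IsQ q (y • eI 5) β → E.cm g₀ q ∈ K →
        ∀ k : ℕ, ∃ β', P.IsQ (q ^ k) (((k : F) * y) • eI 5) β' ∧ Eτ.cm g₀ (q ^ k) = 1 := by
      intro y q β hq hK' k
      induction k with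
      | zero =>
        exact ⟨0, by rw [pow_zero, Nat.cast_zero, zero_mul, zero_smul]; exact P.isQ_one hF,
          by rw [pow_zero]; exact Eτ.cm_one_right _⟩
      | succ k ih =>
        obtain ⟨β', h1, h2⟩ := ih
        refine ⟨_, by
          rw [pow_succ]
          exact P.isQ_congr (P.isQ_mul hF (hsupp _) (hsupp y) h1 hq)
            (by rw [← add_smul, Nat.cast_succ, add_one_mul]) rfl, ?_⟩
        rw [pow_succ, (cm_mul_right Eτ ((hcommute y q β hq).pow_right k)).resolve_right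
          (not_not_intro (hcommute y q β hq)), h2, hzero _ _ hK', one_mul]
    obtain ⟨γ₁, a1, a2⟩ := hpow 1 q₁ β₁ hq₁ (Subgroup.subset_closure (Or.inl rfl)) i
    obtain ⟨γ₂, b1, b2⟩ := hpow ω q₂ β₂ hq₂ (Subgroup.subset_closure (Or.inr rfl)) j
    refine ⟨q₁ ^ i * q₂ ^ j, _, P.isQ_congr (P.isQ_mul hF (hsupp _) (hsupp _) a1 b1)
      (by rw [← add_smul, mul_one, e]) rfl, ?_, ?_⟩
    · show Eτ.cm g₀ _ = 1
      rw [(cm_mul_right Eτ ((hcommute _ _ _ hq₁).pow_right i)).resolve_right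
        (not_not_intro ((hcommute _ _ _ hq₂).pow_right j)), a2, b2, one_mul]
    · exact ((hcommute _ _ _ hq₁).pow_right i).mul_right ((hcommute _ _ _ hq₂).pow_right j)
  have hch : CharP F 2 := (CharP.charP_iff_prime_eq_zero Nat.prime_two).2
    (by exact_mod_cast SuMult50.two_eq_zero hF)
  have E' : PExt 2 σ' := ⟨Nat.prime_two, hσ'.1, hσ'.2.1, h2K⟩
  have hbot : σ'.ker = ⊥ := by
    have := hch
    exact ptriv_SU hF 6 (by norm_num) (by norm_num) (Γ ⧸ K) σ' E'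
      (gen_of_coprime (SU_gen hF (by norm_num))
        ⟨commutator_SU_eq_top hF (by norm_num) (by norm_num)⟩ hσ' E')
  intro x hx
  have : QuotientGroup.mk' K x ∈ σ'.ker := hx
  rw [hbot, Subgroup.mem_bot] at this
  exact (QuotientGroup.eq_one_iff x).1 this

end Cfsg.Agent.U62Mult50
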