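import Cfsg.Agent.U62Mult50.CheckDefs

/-!
The certificate of the two double covers of `SU_6(2)`, checked by the kernel (helper50).
-/

set_option autoImplicit false

namespace Cfsg.Agent.U62Mult50

theorem genB_true : genB = true := by decide +kernel

theorem permB_true : permB = true := by decide +kernel

theorem actB_true : actB = true := by decide +kernel

theorem ptB_true : ptB = true := by decide +kernel

theorem linkB_true : linkB = true := by decide +kernel

theorem treeB_true : treeB = true := by decide +kernel

theorem coverB_true : coverB = true := by decide +kernel

theorem commB_true : commB = true := by decide +kernel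

theorem shiftA : shiftB 0 0 1 1 = true ∧ shiftB 0 0 2 1 = true := by decide +kernel

theorem shiftBB : shiftB 1 0 1 0 = true ∧ shiftB 1 0 2 1 = true := by decide +kernel

end Cfsg.Agent.U62Mult50
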