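import Cfsg.Agent.U62Mult50.Table
import Cfsg.Agent.Lib.CosetEnum.Pack
import Cfsg.Agent.Lib.ChevCore.Eval

/-!
The certificate of the two double covers of `SU_6(2)`: definitions (helper50).
-/

set_option autoImplicit false

namespace Cfsg.Agent.U62Mult50

open Cfsg.Agent.ChevCore Cfsg.Agent.CosetEnum

/-- The field of four elements on the numbers `a + 2b`, standing for `a + bω`. -/
def cadd (a b : ℕ) : ℕ := (a % 2 + b % 2) % 2 + 2 * ((a / 2 + b / 2) % 2)

/-- The product. -/
def cmul (a b : ℕ) : ℕ :=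
  (a % 2 * (b % 2) + a / 2 * (b / 2)) % 2 +
    2 * ((a % 2 * (b / 2) + a / 2 * (b % 2) + a / 2 * (b / 2)) % 2)

/-- The conjugate. -/
def cbar (a : ℕ) : ℕ := (a % 2 + a / 2) % 2 + 2 * (a / 2 % 2)

/-- The sum of six numbers. -/
def csum (f : ℕ → ℕ) : ℕ :=
  cadd (cadd (cadd (f 0) (f 1)) (cadd (f 2) (f 3))) (cadd (f 4) (f 5))

/-- A coordinate of a coded vector. -/
def digit (v k : ℕ) : ℕ := v / 4 ^ k % 4

/-- A point. -/
def ptN (i : ℕ) : ℕ := (ptTab >>> (12 * i)) % 4096

/-- An entry of a generator. -/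
def mEnt (k r c : ℕ) : ℕ := (mTab.getD k 0 >>> (2 * (6 * r + c))) % 4

/-- The permutations. -/
def piN (k i : ℕ) : ℕ := (piTab.getD k 0 >>> (10 * i)) % 1024

/-- Their inverses. -/
def pinvN (k i : ℕ) : ℕ := (pinvTab.getD k 0 >>> (10 * i)) % 1024

/-- The factors. -/
def lamN (k i : ℕ) : ℕ := (lamTab.getD k 0 >>> (2 * i)) % 4

/-- The signs of the lifts. -/
def cN (k i : ℕ) : ℕ := (cTab.getD k 0 >>> i) % 2

/-- A row of a table of bits. -/
def rowN (T : List ℕ) (i : ℕ) : ℕ := (T.getD (i / 32) 0 >>> (672 * (i % 32))) % 2 ^ 672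

/-- An entry of a row. -/
def bitN (R j : ℕ) : ℕ := (R >>> j) % 2

/-- The signs of a system. -/
def signTab (c : ℕ) : List ℕ := if c = 0 then signTabA else signTabB

/-- The common neighbour. -/
def viaN (i : ℕ) : ℕ := (viaTab >>> (10 * i)) % 1024

/-- A line. -/
def repN (n : ℕ) : ℕ := (repTab >>> (12 * n)) % 4096

/-- The tree. -/
def infoN (n : ℕ) : ℕ := (infoTab >>> (15 * n)) % 32768

/-- The line of a vector. -/
def idxN (v : ℕ) : ℕ := (idxTab.getD (v / 64) 0 >>> (12 * (v % 64))) % 4096

/-- A generator datum. -/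
def genU (k i : ℕ) : ℕ := (genTab.getD k 0 >>> (2 * i)) % 4

/-- An entry of the matrix of a generator from its datum. -/
def qelEnt (k r c : ℕ) : ℕ :=
  cadd (if r = c then 1 else 0)
    (cadd (cadd (cmul (cbar (genU k c)) (genU k (6 + r)))
        (cmul (cbar (genU k (6 + c))) (genU k r)))
      (cmul (cmul (genU k 12) (cbar (genU k c))) (genU k r)))

/-- The data of a generator. -/
noncomputable def genB : Bool :=
  kallUpTo 5 fun k =>
    Nat.beq (csum fun i => cmul (genU k i) (cbar (genU k i))) 0 &&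
    Nat.beq (csum fun i => cmul (genU k (6 + i)) (cbar (genU k i))) 0 &&
    Nat.beq (cadd (genU k 12) (cbar (genU k 12)))
      (csum fun i => cmul (genU k (6 + i)) (cbar (genU k (6 + i)))) &&
    kallUpTo 6 fun r => kallUpTo 6 fun c => Nat.beq (mEnt k r c) (qelEnt k r c)

/-- The permutations are bijections. -/
noncomputable def permB : Bool :=
  kallUpTo 5 fun k => kallUpTo 672 fun i =>
    Nat.blt (piN k i) 672 && Nat.blt (pinvN k i) 672 &&
    Nat.beq (pinvN k (piN k i)) i && Nat.beq (piN k (pinvN k i)) i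

/-- The points are moved as claimed. -/
noncomputable def actB : Bool :=
  kallUpTo 5 fun k => kallUpTo 672 fun i =>
    forceNat (ptN i) fun v => forceNat (ptN (piN k i)) fun w => forceNat (lamN k i) fun l =>
      Nat.blt 0 l && kallUpTo 6 fun r =>
        Nat.beq (csum fun c => cmul (mEnt k r c) (digit v c)) (cmul l (digit w r))

/-- The signs are preserved by one generator. -/
noncomputable def invB (c k : ℕ) : Bool :=
  forceNat (piTab.getD k 0) fun P => forceNat (cTab.getD (5 * c + k) 0) fun C =>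
    kallUpTo 672 fun i => forceNat ((P >>> (10 * i)) % 1024) fun pi =>
      forceNat (rowN orthTab i) fun O => forceNat (rowN orthTab pi) fun O' =>
      forceNat (rowN (signTab c) i) fun T => forceNat (rowN (signTab c) pi) fun T' =>
      forceNat ((C >>> i) % 2) fun ci =>
      kallUpTo 672 fun j => Nat.beq (bitN O j) 0 ||
        forceNat ((P >>> (10 * j)) % 1024) fun pj =>
          Nat.beq (bitN O' pj) 1 &&
            Nat.beq ((bitN T' pj + ci + (C >>> j) % 2) % 2) (bitN T j)

/-- The codes of the points increase and their first nonzero coordinate is one. -/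
noncomputable def ptB : Bool :=
  kallUpTo 672 fun i => (Nat.beq i 671 || Nat.blt (ptN i) (ptN (i + 1))) &&
    kanyUpTo 6 fun m => Nat.beq (digit (ptN i) m) 1 &&
      kallUpTo m fun m' => Nat.beq (digit (ptN i) m') 0

/-- The points are linked. -/
noncomputable def linkB : Bool :=
  kallUpTo 672 fun i => forceNat (viaN i) fun v => Nat.blt v 672 &&
    Nat.beq (bitN (rowN orthTab i) v) 1 && Nat.beq (bitN (rowN orthTab v) 0) 1

/-- The tree on the lines. -/
noncomputable def treeB : Bool :=
  kallUpTo 693 fun n => Nat.beq n 0 || forceNat (infoN n) fun x =>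
    forceNat (repN (x % 1024)) fun p => forceNat (repN n) fun v =>
      Nat.blt (x % 1024) n && Nat.blt (x / 1024 % 8) 5 && Nat.blt 0 (x / 8192) &&
      Nat.blt (x / 8192) 4 &&
      kallUpTo 6 fun r => Nat.beq (digit v r)
        (cmul (x / 8192) (csum fun c => cmul (mEnt (x / 1024 % 8) r c) (digit p c)))

/-- The isotropic vectors lie on the lines. -/
noncomputable def coverB : Bool :=
  kallUpTo 4096 fun v => Nat.beq v 0 ||
    !Nat.beq (csum fun i => cmul (digit v i) (cbar (digit v i))) 0 ||
    forceNat (idxN v) fun x => Nat.blt (x / 4) 693 &&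
      kallUpTo 6 fun r => Nat.beq (digit v r) (cmul (x % 4) (digit (repN (x / 4)) r))

/-- The matrices of the first three generators commute as needed. -/
noncomputable def commB : Bool :=
  kallUpTo 6 fun r => kallUpTo 6 fun c =>
    Nat.beq (csum fun l => cmul (mEnt 0 r l) (mEnt 1 l c))
      (csum fun l => cmul (mEnt 1 r l) (mEnt 0 l c)) &&
    Nat.beq (csum fun l => cmul (mEnt 0 r l) (mEnt 2 l c))
      (csum fun l => cmul (mEnt 2 r l) (mEnt 0 l c))

/-- The sign in a commutator of two lifts. -/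
noncomputable def shiftB (c a b e : ℕ) : Bool :=
  kallUpTo 672 fun i => Nat.beq (piN a (piN b i)) (piN b (piN a i)) &&
    Nat.beq ((cN (5 * c + b) i + cN (5 * c + a) (piN b i)) % 2)
      ((e + cN (5 * c + a) i + cN (5 * c + b) (piN a i)) % 2)

end Cfsg.Agent.U62Mult50
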