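import Cfsg.Agent.U62Mult50.Coords
import Cfsg.Agent.U62Mult50.Check

/-!
Signed permutations of the 672 points compatible with a matrix (helper50).
-/

set_option autoImplicit false

namespace Cfsg.Agent.U62Mult50

open Matrix Cfsg.Agent.ChevCore Cfsg.Agent.CosetEnum

universe v

/-- The signed points. -/
abbrev Pt := Fin 672 × ZMod 2

variable {F : Type v} [Field F] {ω : F}

/-- The sign between two signed orthogonal points. -/
def Hv (c : ℕ) (a b : Pt) : Option (ZMod 2) :=
  if bitN (rowN orthTab a.1) b.1 = 1 then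
    some ((bitN (rowN (signTab c) a.1) b.1 : ZMod 2) + a.2 + b.2)
  else none

/-- A permutation of the signed points compatible with a matrix. -/
def Compat (ω : F) (c : ℕ) (M : Matrix (Fin 6) (Fin 6) F) (p : Equiv.Perm Pt) : Prop :=
  (∀ a : Pt, p (a.1, a.2 + 1) = ((p a).1, (p a).2 + 1)) ∧
    (∀ a b v, Hv c a b = some v → Hv c (p a) (p b) = some v) ∧
    ∀ a : Pt, ∃ s : F, s ≠ 0 ∧ M *ᵥ vecN ω (ptN a.1) = s • vecN ω (ptN (p a).1)

theorem compat_one (c : ℕ) : Compat ω c (1 : Matrix (Fin 6) (Fin 6) F) 1 :=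
  ⟨fun _ => rfl, fun _ _ _ h => h, fun _ => ⟨1, one_ne_zero, by simp⟩⟩

theorem compat_mul {c : ℕ} {M N : Matrix (Fin 6) (Fin 6) F} {p q : Equiv.Perm Pt}
    (h : Compat ω c M p) (h' : Compat ω c N q) : Compat ω c (M * N) (p * q) := by
  refine ⟨fun a => ?_, fun a b v e => ?_, fun a => ?_⟩
  · simp only [Equiv.Perm.mul_apply, h'.1, h.1]
  · exact h.2.1 _ _ _ (h'.2.1 _ _ _ e)
  · obtain ⟨s, hs, e⟩ := h'.2.2 a
    obtain ⟨t, ht, e'⟩ := h.2.2 (q a)
    refine ⟨s * t, mul_ne_zero hs ht, ?_⟩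
    rw [← Matrix.mulVec_mulVec, e, Matrix.mulVec_smul, e', smul_smul]
    rfl

theorem compat_equivariant {c : ℕ} {M : Matrix (Fin 6) (Fin 6) F} {p : Equiv.Perm Pt}
    (h : Compat ω c M p) (i : Fin 672) (k e : ZMod 2) :
    p (i, k + e) = ((p (i, k)).1, (p (i, k)).2 + e) := by
  fin_cases e
  · show p (i, k + 0) = ((p (i, k)).1, (p (i, k)).2 + 0)
    rw [add_zero, add_zero]
  · exact h.1 (i, k)

/-- The change of all signs. -/
def sh (e : ZMod 2) : Equiv.Perm Pt := Equiv.prodCongr (Equiv.refl _) (Equiv.addRight e)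

theorem sh_apply (e : ZMod 2) (a : Pt) : sh e a = (a.1, a.2 + e) := rfl

theorem sh_commute {c : ℕ} {M : Matrix (Fin 6) (Fin 6) F} {p : Equiv.Perm Pt}
    (h : Compat ω c M p) (e : ZMod 2) : Commute (sh e) p :=
  Equiv.ext fun a => by
    simp only [Equiv.Perm.mul_apply, sh_apply]
    exact (compat_equivariant h a.1 a.2 e).symm

theorem ptN_strictMono : ∀ i j, i < j → j < 672 → ptN i < ptN j := by
  intro i j hij hj
  induction j with
  | zero => omega
  | succ j ih =>
    have h := ptB_true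
    simp only [ptB, kallUpTo_iff, Bool.and_eq_true, Bool.or_eq_true, Nat.beq_eq, Nat.blt_eq] at h
    have h1 := (h j (by omega)).1.resolve_left (by omega)
    rcases Nat.lt_succ_iff_lt_or_eq.1 hij with h' | rfl
    · exact (ih h' (by omega)).trans h1
    · exact h1

theorem ptN_lead (i : ℕ) (hi : i < 672) :
    ∃ m : Fin 6, digit (ptN i) m = 1 ∧ ∀ m' : Fin 6, m' < m → digit (ptN i) m' = 0 := by
  have h := ptB_true
  simp only [ptB, kallUpTo_iff, kanyUpTo_iff, Bool.and_eq_true, Nat.beq_eq] at h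
  obtain ⟨m, hm, h1, h2⟩ := (h i hi).2
  exact ⟨⟨m, hm⟩, h1, fun m' hm' => h2 m' hm'⟩

variable [Fintype F] (hF : Fintype.card F = 2 ^ 2) (hω : ω * ω + ω + 1 = 0)
include hF hω

/-- Proportional points are equal. -/
theorem pt_inj {i j : Fin 672} {s : F} (hs : s ≠ 0)
    (h : vecN ω (ptN i) = s • vecN ω (ptN j)) : i = j := by
  have he : ∀ m : Fin 6, val ω (digit (ptN i) m) = s * val ω (digit (ptN j) m) := fun m =>
    congrFun h m
  obtain ⟨m, hm, hm'⟩ := ptN_lead i i.isLt
  obtain ⟨l, hl, hl'⟩ := ptN_lead j j.isLt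
  have hml : m = l := by
    rcases lt_trichotomy m l with h' | h' | h'
    · have := he m
      rw [hm, hl' m h', val_one, val_zero, mul_zero] at this
      exact absurd this one_ne_zero
    · exact h'
    · have := he l
      rw [hl, hm' l h', val_one, val_zero, mul_one] at this
      exact absurd this.symm hs
  have h1 := he m
  rw [hm, hml, hl, val_one, mul_one] at h1
  have hd : ∀ m : Fin 6, digit (ptN i) m = digit (ptN j) m := fun m =>
    val_inj hF hω (digit_lt _ _) (digit_lt _ _) (by rw [he m, ← h1, one_mul])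
  have e0 : digit (ptN i) 0 = digit (ptN j) 0 := hd 0
  have e1 : digit (ptN i) 1 = digit (ptN j) 1 := hd 1
  have e2 : digit (ptN i) 2 = digit (ptN j) 2 := hd 2
  have e3 : digit (ptN i) 3 = digit (ptN j) 3 := hd 3
  have e4 : digit (ptN i) 4 = digit (ptN j) 4 := hd 4
  have e5 : digit (ptN i) 5 = digit (ptN j) 5 := hd 5
  have hi4 : ptN i < 4096 := Nat.mod_lt _ (by norm_num)
  have hj4 : ptN j < 4096 := Nat.mod_lt _ (by norm_num)
  have hp : ptN i = ptN j := by
    simp only [digit] at e0 e1 e2 e3 e4 e5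
    omega
  rcases lt_trichotomy (i : ℕ) j with h' | h' | h'
  · exact absurd hp (ptN_strictMono _ _ h' j.isLt).ne
  · exact Fin.ext h'
  · exact absurd hp (ptN_strictMono _ _ h' i.isLt).ne'

/-- Only the global sign changes lie over the identity. -/
theorem compat_one_eq {c : ℕ} {p : Equiv.Perm Pt}
    (h : Compat ω c (1 : Matrix (Fin 6) (Fin 6) F) p) : ∃ e, p = sh e := by
  have hfix : ∀ a, (p a).1 = a.1 := by
    intro a
    obtain ⟨s, hs, e⟩ := h.2.2 a
    rw [Matrix.one_mulVec] at e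
    exact (pt_inj hF hω hs e).symm
  set f : Fin 672 → ZMod 2 := fun i => (p (i, 0)).2 with hf
  have hp : ∀ i k, p (i, k) = (i, k + f i) := fun i k => by
    have := compat_equivariant h i 0 k
    rw [zero_add] at this
    rw [this, hfix]
    exact Prod.ext rfl (add_comm _ _)
  have hedge : ∀ i j : Fin 672, bitN (rowN orthTab i) j = 1 → f i = f j := fun i j ht => by
    have := h.2.1 (i, 0) (j, 0) _ (if_pos ht)
    simp only [hp, Hv, if_pos ht, zero_add, add_zero, Option.some.injEq] at this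
    have h2 : (2 : ZMod 2) = 0 := rfl
    linear_combination this - f j * h2
  have hl := linkB_true
  simp only [linkB, kallUpTo_iff, forceNat_eq, Bool.and_eq_true, Nat.beq_eq, Nat.blt_eq] at hl
  refine ⟨f 0, Equiv.ext fun a => ?_⟩
  rw [show p a = (a.1, a.2 + f a.1) from hp a.1 a.2, sh_apply]
  suffices f a.1 = f 0 by rw [this]
  obtain ⟨⟨hv, h1⟩, h2⟩ := hl a.1 a.1.isLt
  exact (hedge a.1 ⟨_, hv⟩ h1).trans (hedge ⟨_, hv⟩ 0 h2)

end Cfsg.Agent.U62Mult50
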