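import Cfsg.Agent.U62Mult50.CheckDefs
import Cfsg.Agent.U62Mult50.Bound

/-!
The numerals of the certificate in a field of four elements (helper50).
-/

set_option autoImplicit false

namespace Cfsg.Agent.U62Mult50

open Matrix Cfsg.Agent.Unitary

universe v

variable {F : Type v} [Field F]

/-- The value of a numeral. -/
def val (ω : F) (a : ℕ) : F := ((a % 2 : ℕ) : F) + ((a / 2 : ℕ) : F) * ω

/-- The vector of a numeral. -/
def vecN (ω : F) (v : ℕ) : Fin 6 → F := fun i => val ω (digit v i)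

variable {ω : F}

theorem val_zero : val ω 0 = 0 := by simp [val]

theorem val_one : val ω 1 = 1 := by simp [val]

theorem cmul_lt (a b : ℕ) : cmul a b < 4 := by unfold cmul; omega

theorem cadd_lt (a b : ℕ) : cadd a b < 4 := by unfold cadd; omega

theorem csum_lt (f : ℕ → ℕ) : csum f < 4 := cadd_lt _ _

theorem digit_lt (v k : ℕ) : digit v k < 4 := Nat.mod_lt _ (by norm_num)

variable [Fintype F] (hF : Fintype.card F = 2 ^ 2) (hω : ω * ω + ω + 1 = 0)
include hF

theorem cast_mod_two (n : ℕ) : ((n % 2 : ℕ) : F) = (n : F) := by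
  conv_rhs => rw [← Nat.div_add_mod n 2]
  push_cast
  rw [SuMult50.two_eq_zero hF, zero_mul, zero_add]

theorem natCast_sq (n : ℕ) : (n : F) ^ 2 = n := by
  rw [← cast_mod_two hF n]
  rcases Nat.mod_two_eq_zero_or_one n with h | h <;> rw [h] <;> simp

theorem val_pack (X Y : ℕ) : val ω (X % 2 + 2 * (Y % 2)) = (X : F) + (Y : F) * ω := by
  rw [val, show (X % 2 + 2 * (Y % 2)) % 2 = X % 2 by omega,
    show (X % 2 + 2 * (Y % 2)) / 2 = Y % 2 by omega, cast_mod_two hF, cast_mod_two hF]

theorem val_cadd (a b : ℕ) : val ω (cadd a b) = val ω a + val ω b := by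
  rw [cadd, val_pack hF]
  simp only [val, Nat.cast_add]
  ring

include hω in
theorem val_cmul (a b : ℕ) : val ω (cmul a b) = val ω a * val ω b := by
  rw [cmul, val_pack hF]
  simp only [val, Nat.cast_add, Nat.cast_mul, cast_mod_two hF]
  have h2 := SuMult50.two_eq_zero hF
  linear_combination ((a / 2 : ℕ) : F) * ((b / 2 : ℕ) : F) * ((1 + ω) * h2 - hω)

include hω in
theorem val_cbar (a : ℕ) : val ω (cbar a) = val ω a ^ 2 := by
  rw [cbar, val_pack hF]
  simp only [val, Nat.cast_add]
  generalize hx : ((a % 2 : ℕ) : F) = x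
  generalize hy : ((a / 2 : ℕ) : F) = y
  have ex : x ^ 2 = x := hx ▸ natCast_sq hF _
  have ey : y ^ 2 = y := hy ▸ natCast_sq hF _
  linear_combination (y + y * ω - x * y * ω) * SuMult50.two_eq_zero hF - ex
    - ω ^ 2 * ey - y * hω

theorem val_csum (f : ℕ → ℕ) : val ω (csum f) = ∑ i : Fin 6, val ω (f i) := by
  rw [csum, val_cadd hF, val_cadd hF, val_cadd hF, val_cadd hF, val_cadd hF, Fin.sum_univ_six]
  simp only [Fin.val_zero, Fin.val_one, Fin.val_two]
  rw [show ((3 : Fin 6) : ℕ) = 3 from rfl, show ((4 : Fin 6) : ℕ) = 4 from rfl,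
    show ((5 : Fin 6) : ℕ) = 5 from rfl]
  ring

include hω in
theorem herm_val (f g : ℕ → ℕ) :
    herm 2 (fun i : Fin 6 => val ω (f i)) (fun i => val ω (g i)) =
      val ω (csum fun i => cmul (f i) (cbar (g i))) := by
  rw [val_csum hF]
  simp only [herm, hermForm, val_cmul hF hω, val_cbar hF hω]

include hω in
theorem val_inj {a b : ℕ} (ha : a < 4) (hb : b < 4) (h : val ω a = val ω b) : a = b := by
  have hcc : ∀ c, val ω (cadd c c) = 0 := fun c => by
    rw [val_cadd hF, ← two_mul, SuMult50.two_eq_zero hF, zero_mul]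
  have h0 : val ω (cadd a b) = 0 := by rw [val_cadd hF, h, ← val_cadd hF, hcc]
  have hk : ∀ a < 4, ∀ b < 4, cadd a b = 0 → a = b := by decide
  have hinv : ∀ c < 4, c ≠ 0 → ∃ d < 4, cmul c d = 1 := by decide
  refine hk a ha b hb (by_contra fun hne => ?_)
  obtain ⟨d, -, hd⟩ := hinv _ (cadd_lt _ _) hne
  have := val_cmul hF hω (cadd a b) d
  rw [hd, h0, zero_mul, val_one] at this
  exact one_ne_zero this

include hω in
theorem exists_val (x : F) : ∃ c < 4, val ω c = x := by
  classical
  have hinj : Function.Injective fun c : Fin 4 => val ω (c : ℕ) := fun a b h =>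
    Fin.ext (val_inj hF hω a.isLt b.isLt h)
  obtain ⟨c, hc⟩ := ((Fintype.bijective_iff_injective_and_card _).2
    ⟨hinj, by rw [Fintype.card_fin, hF]; rfl⟩).2 x
  exact ⟨c, c.isLt, hc⟩

include hω in
theorem exists_vecN (x : Fin 6 → F) : ∃ v < 4096, vecN ω v = x := by
  choose c hc hv using fun i => exists_val hF hω (x i)
  refine ⟨c 0 + 4 * c 1 + 16 * c 2 + 64 * c 3 + 256 * c 4 + 1024 * c 5, ?_, funext fun i => ?_⟩
  · have h0 := hc 0; have h1 := hc 1; have h2 := hc 2
    have h3 := hc 3; have h4 := hc 4; have h5 := hc 5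
    omega
  · rw [← hv i]
    simp only [vecN]
    congr 1
    have h0 := hc 0; have h1 := hc 1; have h2 := hc 2
    have h3 := hc 3; have h4 := hc 4; have h5 := hc 5
    fin_cases i <;> simp [digit] <;> omega

end Cfsg.Agent.U62Mult50
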