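import Cfsg.Agent.U62Mult50.Compat
import Cfsg.Agent.U62Mult50.Inv4
import Cfsg.Agent.U62Mult50.Inv9

/-!
The five generators with their compatible signed permutations (helper50).
-/

set_option autoImplicit false

namespace Cfsg.Agent.U62Mult50

open Matrix Cfsg.Agent.Unitary Cfsg.Agent.ChevCore Cfsg.Agent.CosetEnum

universe v

theorem invB_true : ∀ (c : Fin 2) (k : Fin 5), invB c k = true := by
  intro c k
  fin_cases c <;> fin_cases k
  exacts [invB_0, invB_1, invB_2, invB_3, invB_4, invB_5, invB_6, invB_7, invB_8, invB_9]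

theorem piN_facts {k : ℕ} (hk : k < 5) {i : ℕ} (hi : i < 672) :
    piN k i < 672 ∧ pinvN k i < 672 ∧ pinvN k (piN k i) = i ∧ piN k (pinvN k i) = i := by
  have h := permB_true
  simp only [permB, kallUpTo_iff, Bool.and_eq_true, Nat.blt_eq, Nat.beq_eq] at h
  obtain ⟨⟨⟨h1, h2⟩, h3⟩, h4⟩ := h k hk i hi
  exact ⟨h1, h2, h3, h4⟩

/-- A signed permutation from the tables. -/
def permP (c : Fin 2) (k : Fin 5) : Equiv.Perm Pt where
  toFun a := (⟨piN k a.1, (piN_facts k.isLt a.1.isLt).1⟩, a.2 + (cN (5 * c + k) a.1 : ZMod 2))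
  invFun a := (⟨pinvN k a.1, (piN_facts k.isLt a.1.isLt).2.1⟩,
    a.2 - (cN (5 * c + k) (pinvN k a.1) : ZMod 2))
  left_inv a := by
    refine Prod.ext (Fin.ext (piN_facts k.isLt a.1.isLt).2.2.1) ?_
    show a.2 + (cN (5 * c + k) a.1 : ZMod 2) -
      (cN (5 * c + k) (pinvN k (piN k a.1)) : ZMod 2) = a.2
    rw [(piN_facts k.isLt a.1.isLt).2.2.1, add_sub_cancel_right]
  right_inv a := by
    refine Prod.ext (Fin.ext (piN_facts k.isLt a.1.isLt).2.2.2) ?_
    show a.2 - (cN (5 * c + k) (pinvN k a.1) : ZMod 2) +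
      (cN (5 * c + k) (pinvN k a.1) : ZMod 2) = a.2
    rw [sub_add_cancel]

theorem permP_Hv (c : Fin 2) (k : Fin 5) (a b : Pt) (v : ZMod 2) (e : Hv c a b = some v) :
    Hv c (permP c k a) (permP c k b) = some v := by
  have h := invB_true c k
  simp only [invB, kallUpTo_iff, forceNat_eq] at h
  have h1 := h a.1 a.1.isLt b.1 b.1.isLt
  simp only [Bool.or_eq_true, Bool.and_eq_true, Nat.beq_eq] at h1
  by_cases ho : bitN (rowN orthTab a.1) b.1 = 1
  swap
  · rw [Hv, if_neg ho] at e; cases e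
  rw [Hv, if_pos ho] at e
  obtain ⟨h2, h3⟩ := h1.resolve_left (by rw [ho]; norm_num)
  rw [Hv]
  show (if bitN (rowN orthTab (piN k a.1)) (piN k b.1) = 1 then
      some ((bitN (rowN (signTab c) (piN k a.1)) (piN k b.1) : ZMod 2) +
        (a.2 + (cN (5 * c + k) a.1 : ZMod 2)) + (b.2 + (cN (5 * c + k) b.1 : ZMod 2)))
    else none) = some v
  rw [if_pos (show bitN (rowN orthTab (piN k a.1)) (piN k b.1) = 1 from h2), ← e]
  congr 1
  have h3' : (bitN (rowN (signTab c) (piN k a.1)) (piN k b.1) + cN (5 * c + k) a.1 +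
      cN (5 * c + k) b.1) % 2 = bitN (rowN (signTab c) a.1) b.1 := h3
  have e' := congrArg (fun n : ℕ => (n : ZMod 2)) h3'
  simp only [ZMod.natCast_mod, Nat.cast_add] at e'
  linear_combination e'

variable {F : Type v} [Field F] {ω : F}

/-- The matrix of the tables. -/
def matM (ω : F) (k : ℕ) : Matrix (Fin 6) (Fin 6) F := Matrix.of fun a b => val ω (mEnt k a b)

variable [Fintype F] (hF : Fintype.card F = 2 ^ 2) (hω : ω * ω + ω + 1 = 0)
include hF hω

theorem compat_gen (c : Fin 2) (k : Fin 5) : Compat ω c (matM ω k) (permP c k) := by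
  refine ⟨fun a => Prod.ext (Fin.ext rfl) ?_, permP_Hv c k, fun a => ?_⟩
  · show a.2 + 1 + _ = a.2 + _ + 1
    exact add_right_comm _ _ _
  · have h := actB_true
    simp only [actB, kallUpTo_iff, forceNat_eq, Bool.and_eq_true, Nat.beq_eq, Nat.blt_eq] at h
    obtain ⟨hl, hent⟩ := h k k.isLt a.1 a.1.isLt
    refine ⟨val ω (lamN k a.1), fun e => ?_, ?_⟩
    · exact hl.ne' (val_inj hF hω (Nat.mod_lt _ (by norm_num)) (by norm_num)
        (e.trans val_zero.symm))
    funext r
    have e := congrArg (val ω) (hent r r.isLt)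
    simp only [val_csum hF, val_cmul hF hω] at e
    show (∑ x : Fin 6, matM ω k r x * vecN ω (ptN a.1) x) = _
    exact e

omit [Field F] [Fintype F] hF hω in
theorem shift_comm {c : Fin 2} {a b : Fin 5} {e : ℕ} (h : shiftB c a b e = true) :
    permP c a * permP c b = sh (e : ZMod 2) * (permP c b * permP c a) := by
  simp only [shiftB, kallUpTo_iff, Bool.and_eq_true, Nat.beq_eq] at h
  refine Equiv.ext fun x => ?_
  obtain ⟨h1, h2⟩ := h x.1 x.1.isLt
  simp only [Equiv.Perm.mul_apply, sh_apply]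
  refine Prod.ext (Fin.ext ?_) ?_
  · show piN a (piN b x.1) = piN b (piN a x.1)
    exact h1
  · show x.2 + (cN (5 * c + b) x.1 : ZMod 2) + (cN (5 * c + a) (piN b x.1) : ZMod 2) =
      x.2 + (cN (5 * c + a) x.1 : ZMod 2) + (cN (5 * c + b) (piN a x.1) : ZMod 2) + (e : ZMod 2)
    have e' := congrArg (fun n : ℕ => (n : ZMod 2)) h2
    simp only [ZMod.natCast_mod, Nat.cast_add] at e'
    linear_combination e'

/-- A generator in `SU_6(2)`. -/
def IsGen (ω : F) (k : ℕ) (g : SU 6 F 2) : Prop :=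
  (g : Matrix.SpecialLinearGroup (Fin 6) F).1 = matM ω k

theorem exists_gen {k : ℕ} (hk : k < 5) : ∃ g : SU 6 F 2, IsGen ω k g ∧
    ∀ x, g • x = x + (herm 2 x (fun i : Fin 6 => val ω (genU k i)) •
        (fun i : Fin 6 => val ω (genU k (6 + i))) -
      herm 2 x (fun i : Fin 6 => val ω (genU k (6 + i))) • (fun i : Fin 6 => val ω (genU k i)) +
      (val ω (genU k 12) * herm 2 x (fun i : Fin 6 => val ω (genU k i))) •
        (fun i : Fin 6 => val ω (genU k i))) := by
  have h2 := SuMult50.two_eq_zero hF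
  have h := genB_true
  simp only [genB, kallUpTo_iff, Bool.and_eq_true, Nat.beq_eq] at h
  obtain ⟨⟨⟨hu, hw⟩, hb⟩, hent⟩ := h k hk
  set u : Fin 6 → F := fun i => val ω (genU k i)
  set w : Fin 6 → F := fun i => val ω (genU k (6 + i))
  have huu : herm 2 u u = 0 := by
    rw [herm_val hF hω (genU k) (genU k), hu, val_zero]
  have hwu : herm 2 w u = 0 := by
    rw [herm_val hF hω (fun i => genU k (6 + i)) (genU k), hw, val_zero]
  have hbb : val ω (genU k 12) + val ω (genU k 12) ^ 2 = -herm 2 w w := by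
    rw [herm_val hF hω (fun i => genU k (6 + i)) (fun i => genU k (6 + i)), ← val_cbar hF hω,
      ← val_cadd hF, hb]
    linear_combination val ω (csum fun i => cmul (genU k (6 + i)) (cbar (genU k (6 + i)))) * h2
  refine ⟨Qel hF huu hwu hbb, ?_, Qel_smul hF huu hwu hbb⟩
  show qelMat 2 u w (val ω (genU k 12)) = _
  ext a b
  rw [qelMat]
  simp only [matM, Matrix.of_apply, hent a a.isLt b b.isLt, qelEnt, val_cadd hF,
    val_cmul hF hω, val_cbar hF hω, Matrix.add_apply, Matrix.sub_apply, Matrix.vecMulVec_apply,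
    Matrix.smul_apply, smul_eq_mul, Matrix.one_apply, Fin.val_inj, u, w]
  split_ifs <;> simp only [val_one, val_zero] <;>
    linear_combination (-(val ω (genU k a) * val ω (genU k (6 + b)) ^ 2)) * h2

end Cfsg.Agent.U62Mult50
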