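import Cfsg.Agent.U62Mult50.Inv6

/-!
Generator 2 preserves the signs of system 1 (helper50).
-/

set_option autoImplicit false

namespace Cfsg.Agent.U62Mult50

theorem invB_7 : invB 1 2 = true := by decide +kernel

end Cfsg.Agent.U62Mult50
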