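import Cfsg.Agent.U62Mult50.Section

/-!
Which elements fixing a frame normalise the lifted radical of `SU_6(2)` (helper50).
-/

set_option autoImplicit false

namespace Cfsg.Agent.U62Mult50

open Matrix Cfsg.Agent.Unitary Cfsg.Agent.CharB.PSLMult Cfsg.Agent.SuMult50
open scoped commutatorElement

universe v

variable {F : Type v} [Field F] [Fintype F] (hF : Fintype.card F = 2 ^ 2)
include hF

theorem exists_omega : ∃ ω : F, ω ^ 3 = 1 ∧ ω ≠ 1 := by
  obtain ⟨ω, hω, hk⟩ := exists_gen_norm_one hF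
  exact ⟨ω, hω, fun h => hk 1 one_pos (by norm_num) (by rw [h, one_pow])⟩

omit [Fintype F] hF in
theorem omega_eq {ω : F} (hω : ω ^ 3 = 1) (hω1 : ω ≠ 1) : ω * ω + ω + 1 = 0 := by
  have h : (ω - 1) * (ω * ω + ω + 1) = 0 := by linear_combination hω
  exact (mul_eq_zero.1 h).resolve_left (sub_ne_zero.2 hω1)

/-- A mover constant on two given coordinates. -/
theorem exists_mover_pair (P : Frame 6 F 2) {ω : F} (hω : ω ^ 3 = 1) (hω1 : ω ≠ 1) {i j : Fin 6}
    (hij : i ≠ j) (hi : i ∉ P.pair) (hj : j ∉ P.pair) :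
    ∃ (t : SU 6 F 2) (a : Fin 6 → F), P.IsTor t 1 a ∧ a i = ω ∧ a j = ω ∧
      ∀ m ∉ P.pair, a m ≠ 1 := by
  classical
  set a : Fin 6 → F := fun m => if m ∈ P.pair then 1 else if m = i ∨ m = j then ω else ω * ω
    with hadef
  have hP : P.pair.card = 2 := by rw [Frame.pair, Finset.card_pair P.hij]
  obtain ⟨t, ht⟩ := P.exists_tor hF (l := 1) (a := a) one_ne_zero
    (fun m => by
      simp only [hadef]
      split_ifs
      · exact one_pow _
      · exact hω
      · show (ω * ω) ^ 3 = 1; rw [mul_pow, hω, one_mul])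
    (fun m hm => if_pos hm)
    (by
      have e : a = fun m => (if m ∈ P.pairᶜ then ω * ω else 1) *
          (if m ∈ ({i, j} : Finset (Fin 6)) then ω * ω else 1) := by
        funext m
        simp only [hadef, Finset.mem_insert, Finset.mem_singleton]
        by_cases h1 : m ∈ P.pair
        · have h2 : ¬ (m = i ∨ m = j) := by rintro (rfl | rfl) <;> contradiction
          simp [h1, h2]
        · by_cases h2 : m = i ∨ m = j
          · simp [h1, h2]
            linear_combination (-ω) * hω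
          · simp [h1, h2]
      rw [one_pow, inv_one, one_mul, one_mul, e, Finset.prod_mul_distrib, Finset.prod_ite_mem,
        Finset.prod_ite_mem, Finset.univ_inter, Finset.univ_inter, Finset.prod_const,
        Finset.prod_const, Finset.card_pair hij, Finset.card_compl, hP, Fintype.card_fin]
      linear_combination (ω ^ 9 + ω ^ 6 + ω ^ 3 + 1) * hω)
  refine ⟨t, a, ht, ?_, ?_, fun m hm => ?_⟩
  · simp [hadef, hi]
  · simp [hadef, hj]
  · simp only [hadef, if_neg hm]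
    split_ifs
    · exact hω1
    · intro h
      exact hω1 (by linear_combination hω - ω * h)

variable {Γ : Type v} [Group Γ] {σ : Γ →* SU 6 F 2} {P : Frame 6 F 2} {Z0 : Subgroup Γ}

/-- The subgroup is normalised by every lift of the element. -/
def Nm (σ : Γ →* SU 6 F 2) (X : Subgroup Γ) (g : SU 6 F 2) : Prop :=
  ∀ k, σ k = g → ∀ x ∈ X, k * x * k⁻¹ ∈ X

omit [Fintype F] hF in
theorem nm_mul (E : CEx σ) {X : Subgroup Γ} {a b : SU 6 F 2} (ha : Nm σ X a) (hb : Nm σ X b) :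
    Nm σ X (a * b) := by
  intro k hk x hx
  obtain ⟨k', rfl⟩ := E.surj a
  have h1 := hb (k'⁻¹ * k) (by rw [map_mul, map_inv, hk, inv_mul_cancel_left]) x hx
  have h2 := ha k' rfl _ h1
  rwa [show k' * (k'⁻¹ * k * x * (k'⁻¹ * k)⁻¹) * k'⁻¹ = k * x * k⁻¹ by group] at h2

omit [Fintype F] hF in
theorem nm_one (E : CEx σ) (X : Subgroup Γ) : Nm σ X 1 := by
  intro k hk x hx
  have hc : k ∈ Subgroup.center Γ := E.central hk
  rwa [← Subgroup.mem_center_iff.1 hc x, mul_inv_cancel_right]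

omit [Fintype F] hF in
theorem nm_inv (E : CEx σ) [Finite (SU 6 F 2)] {X : Subgroup Γ} {a : SU 6 F 2} (ha : Nm σ X a) :
    Nm σ X a⁻¹ := by
  have e : a⁻¹ = a ^ (orderOf a - 1) := inv_eq_of_mul_eq_one_right (by
    rw [← pow_succ', Nat.sub_add_cancel (orderOf_pos a), pow_orderOf_eq_one])
  rw [e]
  generalize orderOf a - 1 = m
  induction m with
  | zero => rw [pow_zero]; exact nm_one E X
  | succ m ih => rw [pow_succ]; exact nm_mul E ih ha

variable {hF} (S : ZSplit hF P σ Z0)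
  (hcomm : ∀ a b : Γ, σ a ∈ P.qg hF ∅ → σ b ∈ P.qg hF ∅ → ⁅a, b⁆ ∈ Z0)
  {d₀ : Γ} (hd₀ : P.IsMover σ d₀)
include S hcomm hd₀

/-- What commutes with a mover and fixes the frame normalises, if it is made of root elements. -/
theorem nm_of_mover {g : SU 6 F 2} (hgr : g ∈ rootGrp (F := F) (q := 2) P.pair)
    (h : ∃ d : Γ, P.IsMover σ d ∧ Commute g (σ d)) : Nm σ (S.comp hcomm hd₀) g := by
  obtain ⟨d, hd, hgd⟩ := h
  rintro k rfl x hx
  have hx' : x ∈ S.comp hcomm hd := S.comp_le hcomm hd hd₀ hx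
  obtain ⟨z, hz, y, hy, rfl⟩ := hx'
  refine S.comp_le hcomm hd₀ hd ?_
  obtain ⟨c0, hc0⟩ : σ z ∈ P.zgrp hF := S.map ▸ ⟨z, hz, rfl⟩
  have hkz : Commute k z :=
    S.ext.commute_of_cm (P.cm_rootGrp_zero hF S.ext (Or.inl (by norm_num)) hc0 hgr).2
  obtain ⟨c, hc, hce⟩ := S.ext.exists_central (a := k * d * k⁻¹) (a' := d) (by
    rw [map_mul, map_mul, map_inv, hgd.eq, mul_inv_cancel_right])
  refine ⟨z, hz, k * y * k⁻¹, ?_, ?_⟩
  · rw [map_mul, map_mul, map_inv]
    exact P.qg_conj hF (by simpa using rootGrp_le_fixS hF _ hgr) hy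
  · have e : k * (z * ⁅d, y⁆) * k⁻¹ = k * z * k⁻¹ * ⁅k * d * k⁻¹, k * y * k⁻¹⁆ := by
      simp only [commutatorElement_def]; group
    rw [e, hkz.eq, mul_inv_cancel_right, hce, ← mul_one (k * y * k⁻¹),
      Cfsg.Agent.Schur.commutatorElement_mul_central hc (one_mem _), mul_one]

/-- The torus normalises. -/
theorem nm_tor {g : SU 6 F 2} {l : F} {a : Fin 6 → F} (hg : P.IsTor g l a) :
    Nm σ (S.comp hcomm hd₀) g := by
  rintro k rfl x ⟨z, hz, y, hy, rfl⟩
  obtain ⟨l', a', hd, -⟩ := id hd₀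
  obtain ⟨c, hc, hce⟩ := S.ext.exists_central (a := k * d₀ * k⁻¹) (a' := d₀) (by
    rw [map_mul, map_mul, map_inv, (P.tor_comm hF hg hd).eq, mul_inv_cancel_right])
  refine ⟨k * z * k⁻¹, S.tor k l a hg z hz, k * y * k⁻¹, S.conj_qg hg hy, ?_⟩
  have e : k * (z * ⁅d₀, y⁆) * k⁻¹ = k * z * k⁻¹ * ⁅k * d₀ * k⁻¹, k * y * k⁻¹⁆ := by
    simp only [commutatorElement_def]; group
  rw [e, hce, ← mul_one (k * y * k⁻¹),
    Cfsg.Agent.Schur.commutatorElement_mul_central hc (one_mem _), mul_one]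

/-- Long root elements of another pair of coordinates normalise. -/
theorem nm_zero {R : Frame 6 F 2} (hi : R.i ∉ P.pair) (hj : R.j ∉ P.pair) {g : SU 6 F 2} {b : F}
    (hg : R.IsQ g 0 b) : Nm σ (S.comp hcomm hd₀) g := by
  obtain ⟨ω, hω, hω1⟩ := exists_omega hF
  obtain ⟨t, a, ht, hai, haj, hne⟩ := exists_mover_pair hF P hω hω1 R.hij hi hj
  obtain ⟨d, rfl⟩ := S.ext.surj t
  refine nm_of_mover S hcomm hd₀ (Subgroup.subset_closure ⟨R, 0, b, hg, hi, hj, Or.inl rfl⟩)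
    ⟨d, ⟨1, a, ht, fun m hm => by rw [one_pow, one_mul]; exact hne m hm⟩, ?_⟩
  have hscal : σ d • R.u = ω • R.u := by
    have hzP : R.u ∈ supp P.pair := mem_supp.2 fun m hm => mem_supp.1 R.hu m
      (Finset.mem_compl.2 fun h => by
        rcases Finset.mem_insert.1 h with rfl | h
        · exact hi hm
        · rw [Finset.mem_singleton] at h; subst h; exact hj hm)
    rw [P.tor_smul ht hzP]
    funext m
    by_cases hm : m ∈ R.pair
    · rcases Finset.mem_insert.1 hm with rfl | hm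
      · simp [hai]
      · rw [Finset.mem_singleton] at hm; subst hm; simp [haj]
    · simp [mem_supp.1 R.hu m (Finset.mem_compl.2 hm)]
  have h1 := R.isQ_conj hF hscal hg
  refine (mul_inv_eq_iff_eq_mul.1 (R.isQ_unique (R.isQ_congr h1 (by simp) ?_) hg)).symm
  rw [hω, one_mul]

/-- The element that is blocked by two commutators. -/
theorem nm_root {R : Frame 6 F 2} (hR : R.pair = {2, 3}) (hP : P.pair = {0, 1}) {g : SU 6 F 2}
    {b : F} (hg : R.IsQ g (eI 4) b)
    (hfive : ∀ x : F, ∃ (q : SU 6 F 2) (β : F), P.IsQ q (x • eI 5) β ∧ S.ext.cm g q = 1 ∧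
      Commute g q) : Nm σ (S.comp hcomm hd₀) g := by
  classical
  obtain ⟨ω, hω, hω1⟩ := exists_omega hF
  rintro k rfl x hx
  set X := S.comp hcomm hd₀ with hX
  have hmap : X.map σ = P.qg hF ∅ := S.comp_map hcomm hd₀
  have hinj : ∀ y ∈ X, σ y = 1 → y = 1 := S.comp_inj hcomm hd₀
  have hi : R.i ∉ P.pair ∧ R.j ∉ P.pair := by
    have h1 : R.i ∈ R.pair := by simp [Frame.pair]
    have h2 : R.j ∈ R.pair := by simp [Frame.pair]
    rw [hR] at h1 h2; rw [hP]
    revert h1 h2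
    generalize R.i = i
    generalize R.j = j
    revert i j
    decide
  have h4 : (4 : Fin 6) ∉ P.pair := by rw [hP]; decide
  have h5 : (5 : Fin 6) ∉ P.pair := by rw [hP]; decide
  have hgr : σ k ∈ rootGrp (F := F) (q := 2) P.pair :=
    Subgroup.subset_closure ⟨R, eI 4, b, hg, hi.1, hi.2,
      Or.inr ⟨4, 1, by rw [hR]; decide, h4, (one_smul _ _).symm⟩⟩
  have hkqg : ∀ y, σ y ∈ P.qg hF ∅ → σ (k * y * k⁻¹) ∈ P.qg hF ∅ := fun y hy => by
    rw [map_mul, map_mul, map_inv]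
    exact P.qg_conj hF (by simpa using rootGrp_le_fixS hF _ hgr) hy
  -- the torus constant on the three coordinates
  set a : Fin 6 → F := fun m => if m ∈ ({2, 3, 4} : Finset (Fin 6)) then ω else 1 with hadef
  obtain ⟨t, ht⟩ := P.exists_tor hF (l := 1) (a := a) one_ne_zero
    (fun m => by simp only [hadef]; split_ifs; exacts [hω, one_pow _])
    (fun m hm => if_neg (by rw [hP] at hm; revert m; decide))
    (by
      simp only [hadef]
      rw [Finset.prod_ite_mem, Finset.univ_inter, Finset.prod_const]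
      rw [show ({2, 3, 4} : Finset (Fin 6)).card = 3 from rfl, hω]; simp)
  obtain ⟨d', rfl⟩ := S.ext.surj t
  have hscal : ∀ z : Fin 6 → F, (∀ m, m ∉ ({2, 3, 4} : Finset (Fin 6)) → z m = 0) →
      σ d' • z = ω • z := by
    intro z hz
    have hzP : z ∈ supp P.pair := mem_supp.2 fun m hm => hz m (by rw [hP] at hm; revert m; decide)
    rw [P.tor_smul ht hzP]
    funext m
    by_cases hm : m ∈ ({2, 3, 4} : Finset (Fin 6))
    · simp only [Pi.smul_apply, smul_eq_mul, hadef, if_pos hm]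
    · simp [hz m hm]
  have hdg : Commute (σ d') (σ k) := by
    have hu : σ d' • R.u = ω • R.u := hscal _ fun m hm => mem_supp.1 R.hu m
      (Finset.mem_compl.2 fun h => hm (by
        have h' : m ∈ R.pair := h
        rw [hR] at h'; clear h; revert h'; clear hm; revert m; decide))
    refine mul_inv_eq_iff_eq_mul.1 (R.isQ_unique (R.isQ_congr (R.isQ_conj hF hu hg) ?_ ?_) hg)
    · rw [hscal _ (fun m hm => by
        have : m ≠ 4 := fun h => hm (by subst h; decide)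
        simp [eI, this]), smul_smul, ← pow_succ, hω, one_smul]
    · rw [hω, one_mul]
  obtain ⟨c, hc, hkd⟩ := S.ext.exists_central (a := k * d' * k⁻¹) (a' := d') (by
    rw [map_mul, map_mul, map_inv, hdg.symm.eq, mul_inv_cancel_right])
  have hd'X : ∀ y ∈ X, ⁅d', y⁆ ∈ X := fun y hy => by
    rw [commutatorElement_def]
    exact mul_mem (nm_tor S hcomm hd₀ ht d' rfl y hy) (inv_mem hy)
  -- conjugates of twisted commutators
  have hpiece : ∀ y ∈ X, k * ⁅d', y⁆ * k⁻¹ ∈ X := by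
    intro y hy
    obtain ⟨y', hy', e⟩ : σ (k * y * k⁻¹) ∈ X.map σ :=
      hmap.symm ▸ hkqg y (hmap ▸ ⟨y, hy, rfl⟩)
    obtain ⟨c', hc', e'⟩ := S.ext.exists_central (a := k * y * k⁻¹) (a' := y') e.symm
    rw [show k * ⁅d', y⁆ * k⁻¹ = ⁅k * d' * k⁻¹, k * y * k⁻¹⁆ by
      simp only [commutatorElement_def]; group, hkd, e',
      Cfsg.Agent.Schur.commutatorElement_mul_central hc hc']
    exact hd'X y' hy'
  have hzero : ∀ y ∈ X, ∀ β : F, P.IsQ (σ y) 0 β → k * y * k⁻¹ ∈ X := by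
    intro y hy β hβ
    rw [((S.ext.commute_of_cm
      (P.cm_rootGrp_zero hF S.ext (Or.inl (by norm_num)) hβ hgr).2).eq), mul_inv_cancel_right]
    exact hy
  obtain ⟨w, β, hw, hwb⟩ : σ x ∈ P.qg hF ∅ := hmap ▸ ⟨x, hx, rfl⟩
  have hw' : w ∈ supp P.pair := by simpa using hw
  have hsingle : ∀ x : F, (x • eI 5 : Fin 6 → F) ∈ supp P.pair := fun x =>
    Submodule.smul_mem _ _ (eI_mem_supp h5)
  obtain ⟨q, γ, hq, hcm, hqc⟩ := hfive (w 5)
  obtain ⟨x5, hx5, rfl⟩ : q ∈ X.map σ := hmap.symm ▸ ⟨_, γ, by simpa using hsingle (w 5), hq⟩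
  have hx5k : k * x5 * k⁻¹ ∈ X := by
    rw [(S.ext.commute_of_cm hcm).eq, mul_inv_cancel_right]; exact hx5
  set v : Fin 6 → F := fun m => if m ∈ ({2, 3, 4} : Finset (Fin 6)) then w m / (ω - 1) else 0
    with hvdef
  have hv : v ∈ supp P.pair := mem_supp.2 fun m hm => if_neg (by rw [hP] at hm; revert m; decide)
  obtain ⟨g', ⟨β', hg'⟩⟩ : ∃ g' : SU 6 F 2, ∃ β', P.IsQ g' v β' := by
    obtain ⟨β', hβ'⟩ := exists_trace_eq hF (t := -herm 2 v v)
      (by rw [neg_pow_q hF, herm_self_fixed hF])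
    obtain ⟨g', hg'⟩ := P.exists_isQ hF hv hβ'
    exact ⟨g', β', hg'⟩
  obtain ⟨y, hy, rfl⟩ : g' ∈ X.map σ := hmap.symm ▸ ⟨v, β', by simpa using hv, hg'⟩
  have hdy : P.IsQ (σ ⁅d', y⁆) (fun m => w m - (w 5 • eI 5 : Fin 6 → F) m)
      (1 * β' + (-β' - herm 2 v v) - herm 2 (-v) (σ d' • v)) := by
    have hvc : P.IsQ (σ d' * σ y * (σ d')⁻¹) (σ d' • v) (1 * β') := by
      refine P.isQ_congr (P.isQ_conj hF ht.1 hg') ?_ ?_
      · rw [one_pow, one_smul]
      · rw [one_pow]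
    rw [map_commutatorElement, commutatorElement_def]
    refine P.isQ_congr (P.isQ_mul hF ?_ (neg_mem hv) hvc (P.isQ_inv hF hv hg')) ?_ rfl
    · rw [hscal v (fun m hm => if_neg hm)]
      exact Submodule.smul_mem _ _ hv
    · rw [hscal v (fun m hm => if_neg hm)]
      funext m
      have hw0 : m ∈ P.pair → w m = 0 := mem_supp.1 hw' m
      have hne : ω - 1 ≠ 0 := sub_ne_zero.2 hω1
      fin_cases m <;>
        simp [hvdef, eI, hP] at hw0 ⊢ <;>
        first | exact hw0.symm | (field_simp; ring)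
  set r := ⁅d', y⁆ * x5 with hr
  have hrX : r ∈ X := mul_mem (hd'X y hy) hx5
  have hrest : ∃ δ, P.IsQ (σ (r⁻¹ * x)) 0 δ := by
    have hwv : (fun m => w m - (w 5 • eI 5 : Fin 6 → F) m) ∈ supp P.pair :=
      mem_supp.2 fun m hm => by
        simp only [mem_supp.1 hw' m hm, mem_supp.1 (hsingle (w 5)) m hm, sub_zero]
    have hm := P.isQ_mul hF hwv (hsingle (w 5)) hdy hq
    have h1 : ∃ δ', P.IsQ (σ r) w δ' :=
      ⟨_, P.isQ_congr (g := σ r) (by rw [hr, map_mul]; exact hm) (funext fun m => by simp) rfl⟩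
    obtain ⟨δ', h1⟩ := h1
    have h2 := P.isQ_mul hF (neg_mem hw') hw' (P.isQ_inv hF hw' h1) hwb
    rw [neg_add_cancel, ← map_inv, ← map_mul] at h2
    exact ⟨_, h2⟩
  obtain ⟨δ, hδ⟩ := hrest
  have hfin := mul_mem (mul_mem (hpiece y hy) hx5k) (hzero _ (mul_mem (inv_mem hrX) hx) δ hδ)
  rwa [show k * ⁅d', y⁆ * k⁻¹ * (k * x5 * k⁻¹) * (k * (r⁻¹ * x) * k⁻¹) = k * x * k⁻¹ by
    rw [hr]; group] at hfin

end Cfsg.Agent.U62Mult50
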