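import Cfsg.Agent.SuMult50.Main

/-!
The commutators of the lifted radical of `SU_n(2)`, `n ≥ 5` (helper50).
-/

set_option autoImplicit false

namespace Cfsg.Agent.U62Mult50

open Matrix Cfsg.Agent.Unitary Cfsg.Agent.CharB.PSLMult Cfsg.Agent.SuMult50
open scoped commutatorElement

universe v

variable {F : Type v} [Field F] {n : ℕ} [Fintype F] (hF : Fintype.card F = 2 ^ 2)
include hF

/-- The section over a long root group and the commutators of the radical inside it. -/
theorem exists_section {Γ : Type v} [Group Γ] {σ : Γ →* SU n F 2} (E : CEx σ)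
    (hexp : ∀ z ∈ σ.ker, z ^ 2 = 1) (hn : 5 ≤ n) (P : Frame n F 2) :
    ∃ (Z0 : Subgroup Γ) (_ : ZSplit hF P σ Z0), ∀ a b : Γ, σ a ∈ P.qg hF ∅ → σ b ∈ P.qg hF ∅ →
      ⁅a, b⁆ ∈ Z0 := by
  classical
  have h20 := two_eq_zero hF
  obtain ⟨ω, hω, hωk⟩ := exists_gen_norm_one hF
  have hω1 : ω ≠ 1 := fun h => hωk 1 one_pos (by norm_num) (by rw [h, one_pow])
  have hω0 : ω ≠ 0 := fun h => by simp [h] at hω
  have hω3 : ω ^ 3 = 1 := hω
  have hωeq : ω * ω + ω + 1 = 0 := by
    have h : (ω - 1) * (ω * ω + ω + 1) = 0 := by linear_combination hω3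
    exact (mul_eq_zero.1 h).resolve_left (sub_ne_zero.2 hω1)
  have hn3 : 3 ≤ n := by omega
  have hwide : 4 ≤ n ∨ 3 ≤ 2 := Or.inl (by omega)
  obtain ⟨r₀, hr₀⟩ : ∃ r, r ∉ P.pair := by
    by_contra h
    have h' : (Finset.univ : Finset (Fin n)) ⊆ P.pair := fun r _ => not_not.1 fun hr => h ⟨r, hr⟩
    have := Finset.card_le_card h'
    rw [Finset.card_univ, Fintype.card_fin, Frame.pair, Finset.card_pair P.hij] at this
    omega
  have hsingle : ∀ {k : Fin n} (x : F), k ∉ P.pair → (x • eI k : Fin n → F) ∈ supp P.pair :=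
    fun x hk => Submodule.smul_mem _ _ (eI_mem_supp hk)
  have hlift : ∀ v : Fin n → F, v ∈ supp P.pair → ∃ (a : Γ) (β : F), P.IsQ (σ a) v β := by
    intro v hv
    obtain ⟨β, hβ⟩ := exists_trace_eq hF (t := -herm 2 v v)
      (by rw [neg_pow_q hF, herm_self_fixed hF])
    obtain ⟨g, hg⟩ := P.exists_isQ hF hv hβ
    obtain ⟨a, rfl⟩ := E.surj g
    exact ⟨a, β, hg⟩
  obtain ⟨a₀, β₀, ha₀⟩ := hlift _ (hsingle ω hr₀)
  obtain ⟨b₀, γ₀, hb₀⟩ := hlift _ (hsingle 1 hr₀)
  set z0 : Γ := ⁅a₀, b₀⁆ with hz0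
  have hz0Q : P.IsQ (σ z0) 0 1 := by
    rw [hz0, map_commutatorElement, commutatorElement_def]
    refine P.isQ_congr (P.isQ_comm hF (hsingle ω hr₀) (hsingle 1 hr₀) ha₀ hb₀) rfl ?_
    simp only [one_smul, herm_smul_left, herm_smul_right hF, herm_eI_eI hF, if_true, mul_one]
    linear_combination -hωeq + ω * h20
  have hz0sq : z0 * z0 = 1 := by
    have hc : Commute a₀ z0 := E.commute_of_cm
      (P.cm_qg_zero hF E hn3 hwide hz0Q ⟨_, _, by simpa using hsingle ω hr₀, ha₀⟩).2
    have h1 : P.IsQ (σ (a₀ * a₀)) 0 (β₀ + β₀ - herm 2 (ω • eI r₀ : Fin n → F) (ω • eI r₀)) := by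
      rw [map_mul]
      refine P.isQ_congr (P.isQ_mul hF (hsingle ω hr₀) (hsingle ω hr₀) ha₀ ha₀) ?_ rfl
      rw [← two_smul F, h20, zero_smul]
    have h2 : Commute b₀ (a₀ * a₀) := E.commute_of_cm
      (P.cm_qg_zero hF E hn3 hwide h1 ⟨_, _, by simpa using hsingle 1 hr₀, hb₀⟩).2
    calc z0 * z0 = a₀ * z0 * a₀⁻¹ * z0 := by rw [hc.eq, mul_inv_cancel_right]
      _ = (a₀ * a₀) * b₀ * (a₀ * a₀)⁻¹ * b₀⁻¹ := by
        simp only [hz0, commutatorElement_def]; group
      _ = 1 := by rw [← h2.eq]; group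
  have hz0mem : ∀ g ∈ Subgroup.zpowers z0, g = 1 ∨ g = z0 := by
    rintro _ ⟨m, rfl⟩
    rcases Int.even_or_odd m with ⟨j, rfl⟩ | ⟨j, rfl⟩
    · left
      show z0 ^ (j + j) = 1
      rw [← two_mul, _root_.zpow_mul, zpow_two, hz0sq, _root_.one_zpow]
    · right
      show z0 ^ (2 * j + 1) = z0
      rw [_root_.zpow_add, _root_.zpow_mul, zpow_two, hz0sq, _root_.one_zpow, one_mul, zpow_one]
  have S : ZSplit hF P σ (Subgroup.zpowers z0) :=
    { ext := E
      three := hn3
      wide := hwide
      inj := by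
        intro g hg h1
        rcases hz0mem g hg with rfl | rfl
        · rfl
        · rw [h1] at hz0Q
          exact absurd (P.isQ_inj hF (zero_mem _) (zero_mem _) (P.isQ_one hF) hz0Q).2 zero_ne_one
      map := by
        refine le_antisymm ?_ ?_
        · rw [MonoidHom.map_zpowers, Subgroup.zpowers_le]
          exact ⟨1, hz0Q⟩
        rintro g ⟨c, hc⟩
        have hct := P.isQ_trace hF (zero_mem _) hc
        rw [herm_zero_left, neg_zero] at hct
        have : c * (c + 1) = 0 := by linear_combination hct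
        rcases mul_eq_zero.1 this with h | h
        · exact ⟨1, one_mem _, by
            rw [map_one]; exact P.isQ_unique (P.isQ_one hF) (P.isQ_congr hc rfl h)⟩
        · exact ⟨z0, Subgroup.mem_zpowers z0, P.isQ_unique hz0Q (P.isQ_congr hc rfl (by
            linear_combination h - h20))⟩
      tor := by
        intro k l a hk x hx
        rcases hz0mem x hx with rfl | rfl
        · simp
        have hl0 : l ≠ 0 := fun h => by
          have h1 := herm_smul_SU (σ k) P.u P.f
          rw [hk.1, h, zero_smul, herm_zero_left, P.huf] at h1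
          exact zero_ne_one h1
        have hct : Commute (σ k) (σ z0) := mul_inv_eq_iff_eq_mul.1 (P.isQ_unique
          (P.isQ_congr (P.tor_zero_conj hk hz0Q hF) rfl (by rw [pow_three_eq_one hF hl0, mul_one]))
          hz0Q)
        have h3 : σ k ^ 3 = 1 := by
          refine P.ext hF ?_ ?_ fun m hm => ?_
          · rw [pow_three, mul_smul, mul_smul, hk.1, smul_comm (σ k) l, hk.1,
              smul_comm (σ k) l, smul_comm (σ k) l, hk.1, smul_smul, smul_smul, one_smul,
              show l * l * l = l ^ 3 by ring, pow_three_eq_one hF hl0, one_smul]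
          · rw [pow_three, mul_smul, mul_smul, hk.2.1]
            set c := (l ^ 2)⁻¹
            rw [smul_comm (σ k) c, hk.2.1, smul_comm (σ k) c, smul_comm (σ k) c, hk.2.1,
              smul_smul, smul_smul, one_smul]
            rw [show c * c * c = c ^ 3 by ring,
              pow_three_eq_one hF (inv_ne_zero (pow_ne_zero _ hl0)), one_smul]
          · have ha0 : a m ≠ 0 := fun h => by
              have h1 := herm_smul_SU (σ k) (eI m : Fin n → F) (eI m)
              rw [hk.2.2 m hm, h, zero_smul, herm_zero_left, herm_eI_eI hF, if_pos rfl] at h1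
              exact zero_ne_one h1
            rw [pow_three, mul_smul, mul_smul, hk.2.2 m hm, smul_comm (σ k) (a m), hk.2.2 m hm,
              smul_comm (σ k) (a m), smul_comm (σ k) (a m), hk.2.2 m hm, smul_smul, smul_smul,
              one_smul,
              show a m * a m * a m = a m ^ 3 by ring, pow_three_eq_one hF ha0, one_smul]
        have hker : E.cm (σ k) (σ z0) ∈ σ.ker := by
          rw [MonoidHom.mem_ker, E.map_cm, commutatorElement_eq_one_iff_mul_comm]
          exact hct.eq
        have e2 := hexp _ hker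
        have e3 : E.cm (σ k) (σ z0) ^ 3 = 1 := by rw [← E.cm_pow_left hct, h3, E.cm_one_left]
        rw [pow_succ, e2, one_mul] at e3
        rw [(E.commute_of_cm e3).eq, mul_inv_cancel_right]
        exact hx }
  -- every coordinate gives the same commutator
  have hbase : ∀ k, k ∉ P.pair → S.form (ω • eI k) ((1 : F) • eI k) = 1 := by
    intro k hk
    obtain ⟨a, β, ha⟩ : ∃ (a : Γ) (β : F), P.IsQ (σ a) (ω • eI k) β := hlift _ (hsingle ω hk)
    obtain ⟨b, γ, hb⟩ : ∃ (b : Γ) (γ : F), P.IsQ (σ b) ((1 : F) • eI k) γ := hlift _ (hsingle 1 hk)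
    have hgoal : ⁅a, b⁆ ∈ Subgroup.zpowers z0 := by
      by_cases hkr : k = r₀
      · subst hkr
        rw [S.comm_congr (hsingle ω hk) ha₀ ha ⟨_, γ, by simpa using hsingle 1 hk, hb⟩,
          ← commutatorElement_inv, S.comm_congr (hsingle 1 hk) hb₀ hb
            ⟨_, β₀, by simpa using hsingle ω hk, ha₀⟩, commutatorElement_inv]
        exact Subgroup.mem_zpowers z0
      set u' : Fin n → F := eI k + eI r₀ with hu'
      have hu'S : u' ∈ supp ({k, r₀}ᶜ : Finset (Fin n)) :=
        add_mem (eI_mem_supp (by simp)) (eI_mem_supp (by simp))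
      have hu'u : herm 2 u' u' = 0 := by
        simp only [hu', herm_add_left, herm_add_right hF, herm_eI_eI hF, if_neg hkr,
          if_neg (Ne.symm hkr), if_true]
        linear_combination h20
      have hu'0 : u' ≠ 0 := fun h => by
        have := congrFun h k
        simp [hu', eI, hkr] at this
      obtain ⟨f', hf'S, hf', huf'⟩ := exists_partner hF hu'S hu'u hu'0
      let R : Frame n F 2 := ⟨k, r₀, u', f', hkr, hu'S, hf'S, hu'u, hf', huf'⟩
      obtain ⟨g, hg⟩ := R.exists_isQ hF (w := 0) (b := 1) (zero_mem _) (by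
        rw [herm_zero_left, neg_zero, one_pow]; linear_combination h20)
      have hgr : g ∈ rootGrp (F := F) (q := 2) P.pair :=
        Subgroup.subset_closure ⟨R, 0, 1, hg, hk, hr₀, Or.inl rfl⟩
      have hgfix := rootGrp_le_fixS hF _ hgr
      obtain ⟨k', rfl⟩ := E.surj g
      have hgu : σ k' • P.u = (1 : F) • P.u := by rw [one_smul, (P.fix_frame hF hgfix).1]
      have hge : σ k' • (eI r₀ : Fin n → F) = eI k := by
        rw [hg, herm_zero_right hF, zero_smul, sub_zero, smul_zero, zero_add, one_mul]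
        show eI r₀ + herm 2 (eI r₀) u' • u' = eI k
        rw [hu', herm_add_right hF, herm_eI_eI hF, herm_eI_eI hF, if_neg (Ne.symm hkr),
          if_pos rfl, zero_add, one_smul, add_left_comm, ← two_smul F (eI r₀ : Fin n → F), h20,
          zero_smul, add_zero]
      have hcz : Commute k' z0 := E.commute_of_cm
        (P.cm_rootGrp_zero hF E (Or.inl (by omega)) hz0Q hgr).2
      have conj : ∀ (x : F) (y : Γ) (δ : F), P.IsQ (σ y) (x • eI r₀) δ →
          P.IsQ (σ (k' * y * k'⁻¹)) (x • eI k) δ := by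
        intro x y δ hy
        rw [map_mul, map_mul, map_inv]
        refine P.isQ_congr (P.isQ_conj hF hgu hy) ?_ (by rw [one_pow, one_mul])
        rw [one_pow, one_smul, smul_comm, hge]
      have e1 : ⁅k' * a₀ * k'⁻¹, k' * b₀ * k'⁻¹⁆ = z0 := by
        rw [show ⁅k' * a₀ * k'⁻¹, k' * b₀ * k'⁻¹⁆ = k' * ⁅a₀, b₀⁆ * k'⁻¹ by
          simp only [commutatorElement_def]; group, ← hz0, hcz.eq, mul_inv_cancel_right]
      rw [S.comm_congr (hsingle ω hk) (conj ω a₀ β₀ ha₀) ha
          ⟨_, γ, by simpa using hsingle 1 hk, hb⟩,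
        ← commutatorElement_inv, S.comm_congr (hsingle 1 hk) (conj 1 b₀ γ₀ hb₀) hb
          ⟨_, _, by simpa using hsingle ω hk, conj ω a₀ β₀ ha₀⟩, commutatorElement_inv, e1]
      exact Subgroup.mem_zpowers z0
    exact S.proj_unique (S.form_spec (hsingle ω hk) (hsingle 1 hk) ha hb) (by simpa using hgoal)
  have hsame : ∀ k, k ∉ P.pair → ∀ x : F, S.form (x • eI k) (x • eI k) = 1 := by
    intro k hk x
    obtain ⟨a, β, ha⟩ := hlift _ (hsingle x hk)
    exact S.proj_unique (S.form_spec (hsingle x hk) (hsingle x hk) ha ha) (by simp)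
  have hdiag : ∀ k, k ∉ P.pair → ∀ x y : F, S.form (x • eI k) (y • eI k) = 1 := by
    intro k hk
    have h1ω : S.form ((1 : F) • eI k) (ω • eI k) = 1 := Subtype.ext (by
      rw [S.form_inv (hsingle ω hk) (hsingle 1 hk), hbase k hk, Subgroup.coe_one, inv_one])
    have hdec : ∀ x : F, ∃ a b : F, (a = 0 ∨ a = 1) ∧ (b = 0 ∨ b = 1) ∧ x = a + b * ω := by
      intro x
      by_cases hx : x = 0
      · exact ⟨0, 0, Or.inl rfl, Or.inl rfl, by simp [hx]⟩
      have h3 := pow_three_eq_one hF hx
      have h : (x - 1) * ((x - ω) * (x - ω * ω)) = 0 := by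
        linear_combination h3 + (x - x ^ 2) * hωeq + (x - 1) * hω3
      rcases mul_eq_zero.1 h with h | h
      · exact ⟨1, 0, Or.inr rfl, Or.inl rfl, by rw [sub_eq_zero.1 h]; ring⟩
      rcases mul_eq_zero.1 h with h | h
      · exact ⟨0, 1, Or.inl rfl, Or.inr rfl, by rw [sub_eq_zero.1 h]; ring⟩
      · exact ⟨1, 1, Or.inr rfl, Or.inr rfl, by
          rw [sub_eq_zero.1 h]; linear_combination hωeq - (ω + 1) * h20⟩
    have hz : ∀ y : F, S.form ((0 : F) • eI k) (y • eI k) = 1 := fun y => by
      have h := S.piece_add_left hk hk 0 0 y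
      rw [add_zero] at h
      exact Subtype.ext (left_eq_mul.1 h)
    have hone : ∀ s t : F, (s = 1 ∨ s = ω) → (t = 1 ∨ t = ω) →
        S.form (s • eI k) (t • eI k) = 1 := by
      rintro s t (rfl | rfl) (rfl | rfl)
      · exact hsame k hk 1
      · exact h1ω
      · exact hbase k hk
      · exact hsame k hk _
    have hright : ∀ s : F, (s = 1 ∨ s = ω) → ∀ y : F, S.form (s • eI k) (y • eI k) = 1 := by
      intro s hs y
      have h0 : S.form (s • eI k) ((0 : F) • eI k) = 1 := Subtype.ext (by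
        rw [S.form_inv (hsingle 0 hk) (hsingle s hk), hz s, Subgroup.coe_one, inv_one])
      obtain ⟨a, b, ha, hb, rfl⟩ := hdec y
      refine Subtype.ext ?_
      rw [S.piece_add_right hk hk]
      have hb' : S.form (s • eI k) ((b * ω) • eI k) = 1 := by
        rcases hb with rfl | rfl
        · rw [zero_mul]; exact h0
        · rw [one_mul]; exact hone s ω hs (Or.inr rfl)
      have ha' : S.form (s • eI k) (a • eI k) = 1 := by
        rcases ha with rfl | rfl
        · exact h0
        · exact hone s 1 hs (Or.inl rfl)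
      rw [ha', hb', Subgroup.coe_one, mul_one]
    intro x y
    obtain ⟨a, b, ha, hb, rfl⟩ := hdec x
    refine Subtype.ext ?_
    rw [S.piece_add_left hk hk]
    have hb' : S.form ((b * ω) • eI k) (y • eI k) = 1 := by
      rcases hb with rfl | rfl
      · rw [zero_mul]; exact hz y
      · rw [one_mul]; exact hright ω (Or.inr rfl) y
    have ha' : S.form (a • eI k) (y • eI k) = 1 := by
      rcases ha with rfl | rfl
      · exact hz y
      · exact hright 1 (Or.inl rfl) y
    rw [ha', hb', Subgroup.coe_one, mul_one]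
  have hcomm : ∀ a b : Γ, σ a ∈ P.qg hF ∅ → σ b ∈ P.qg hF ∅ →
      ⁅a, b⁆ ∈ Subgroup.zpowers z0 := fun a b ha hb =>
    S.comm_mem_section (fun k r hk hr hkr x y => S.piece_off (Or.inl (by omega)) hk hr hkr x y)
      hdiag ha hb
  exact ⟨_, S, hcomm⟩

end Cfsg.Agent.U62Mult50
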